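import Cfsg.Agent.Lib.Fusion.Series
import Cfsg.Agent.Lib.Fusion.Alperin
import Mathlib.GroupTheory.Index
import Mathlib.GroupTheory.GroupAction.CardCommute
import Mathlib.Tactic.Group

/-!
Essential subgroups admit no invariant series with steps of order `p`; for abelian essential
subgroups the series only has to reach down to the `p`-th powers.
-/

set_option autoImplicit false
set_option linter.unusedSectionVars false

namespace Cfsg.EssentialSmall

open Cfsg FusionSystem

section Step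

variable {E : Type*} [Group E] [Finite E] {p : ℕ} [Fact p.Prime]

/-- An automorphism of `p`-power order acts trivially on an invariant step of index dividing `p`. -/
theorem inv_mul_mem_of_step {r : MulAut E} {j : ℕ} (hr : r ^ p ^ j = 1) {K L : Subgroup E}
    (hK : ∀ x ∈ K, r x ∈ K) (hL : ∀ x ∈ L, r x ∈ L) (hidx : K.relIndex L ∣ p) :
    ∀ x ∈ L, x⁻¹ * r x ∈ K := by
  intro x hx
  have hpp : p.Prime := Fact.out
  rcases (Nat.dvd_prime hpp).mp hidx with h1 | h1
  · exact Subgroup.relIndex_eq_one.mp h1 (L.mul_mem (L.inv_mem hx) (hL x hx))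
  let Q := L ⧸ K.subgroupOf L
  let f : Q → Q := Quotient.map' (fun y : L => (⟨r y, hL y y.2⟩ : L)) fun a b hab => by
    rw [QuotientGroup.leftRel_apply, Subgroup.mem_subgroupOf] at hab ⊢
    push_cast at hab ⊢
    rw [← map_inv, ← map_mul]
    exact hK _ hab
  have hf : ∀ y : L, f (QuotientGroup.mk y) = QuotientGroup.mk ⟨r y, hL y y.2⟩ := fun y => rfl
  have hit : ∀ (n : ℕ) (y : L), ∃ h, f^[n] (QuotientGroup.mk y) = QuotientGroup.mk ⟨(r ^ n) (y : E), h⟩ := by
    intro n
    induction n with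
    | zero => exact fun y => ⟨y.2, rfl⟩
    | succ n ih =>
      intro y
      obtain ⟨h, e⟩ := ih y
      have h' : (r ^ (n + 1)) (y : E) = r ((r ^ n) (y : E)) := by rw [pow_succ', MulAut.mul_apply]
      refine ⟨h' ▸ hL _ h, ?_⟩
      rw [Function.iterate_succ_apply', e, hf]
      exact congrArg QuotientGroup.mk (Subtype.ext h'.symm)
  have hid : ∀ q : Q, f^[p ^ j] q = q := by
    intro q
    induction q using QuotientGroup.induction_on with
    | H y =>
      obtain ⟨h, e⟩ := hit (p ^ j) y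
      rw [e]
      exact congrArg QuotientGroup.mk (Subtype.ext (by simp [hr]))
  have hpos : 0 < p ^ j := pow_pos hpp.pos j
  have hbij : Function.Bijective f := by
    refine ⟨fun a b hab => ?_, fun a => ⟨f^[p ^ j - 1] a, ?_⟩⟩
    · rw [← hid a, ← hid b]
      obtain ⟨m, hm⟩ := Nat.exists_eq_succ_of_ne_zero hpos.ne'
      rw [hm, Function.iterate_succ_apply, Function.iterate_succ_apply, hab]
    · rw [← Function.iterate_succ_apply' f, Nat.succ_eq_add_one, Nat.sub_add_cancel hpos, hid a]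
  let σ : Equiv.Perm Q := Equiv.ofBijective f hbij
  have hσpow : σ ^ p ^ j = 1 := by
    ext q
    rw [Equiv.Perm.coe_pow, Equiv.Perm.one_apply]
    exact hid q
  have hZ : IsPGroup p (Subgroup.zpowers σ) := by
    rintro ⟨g, i, rfl⟩
    refine ⟨j, Subtype.ext ?_⟩
    show (σ ^ i) ^ p ^ j = 1
    rw [← zpow_natCast, ← zpow_mul, mul_comm, zpow_mul, zpow_natCast, hσpow, one_zpow]
  haveI : Finite Q := inferInstance
  have hcardQ : Nat.card Q = p := by rw [← h1]; rfl
  set F := MulAction.fixedPoints (Subgroup.zpowers σ) Q with hF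
  have hmod := hZ.card_modEq_card_fixedPoints Q
  have hone : (QuotientGroup.mk (1 : L) : Q) ∈ F := by
    rintro ⟨g, i, rfl⟩
    have hfix : σ (QuotientGroup.mk (1 : L) : Q) = QuotientGroup.mk 1 := by
      show f (QuotientGroup.mk (1 : L)) = _
      rw [hf]
      exact congrArg QuotientGroup.mk (Subtype.ext (map_one r))
    exact Equiv.Perm.zpow_apply_eq_self_of_apply_eq_self hfix i
  have hpos' : 0 < Nat.card F := by
    haveI : Nonempty F := ⟨⟨_, hone⟩⟩
    exact Nat.card_pos
  have hle : Nat.card F ≤ p := hcardQ ▸ Nat.card_le_card_of_injective _ Subtype.val_injective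
  have hdvd : p ∣ Nat.card F := by
    rw [hcardQ] at hmod
    exact (Nat.modEq_zero_iff_dvd).mp (hmod.symm.trans ((Nat.modEq_zero_iff_dvd).mpr dvd_rfl))
  have hall : F = Set.univ := Set.eq_univ_of_forall fun q => by
    by_contra hq
    have hlt : Nat.card F < Nat.card Q := by
      rw [Nat.card_coe_set_eq, ← Set.ncard_univ Q]
      exact Set.ncard_lt_ncard (Set.ssubset_univ_iff.mpr fun e => hq (e ▸ Set.mem_univ q))
    have := Nat.le_of_dvd hpos' hdvd
    omega
  have hq : (QuotientGroup.mk (⟨x, hx⟩ : L) : Q) ∈ F := hall ▸ Set.mem_univ _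
  have := hq ⟨σ, Subgroup.mem_zpowers σ⟩
  have h2 : f (QuotientGroup.mk (⟨x, hx⟩ : L)) = QuotientGroup.mk ⟨x, hx⟩ := this
  rw [hf] at h2
  exact Subgroup.mem_subgroupOf.mp ((QuotientGroup.eq (s := K.subgroupOf L)).mp h2.symm)

end Step

variable {Ω : Type*} [Group Ω] {S E : Subgroup Ω} [Finite S] {p : ℕ} [Fact p.Prime] {F : FusionSystem S}

theorem exists_moved (hS : IsPGroup p S) (hF : F.IsSaturated p) (hE : F.IsEssential p E) :
    ∃ g ∈ normalizerIn S E, g ∉ E := by
  obtain ⟨g, hg, hgE⟩ := SetLike.exists_of_lt (lt_normalizerIn hS (hE.lt hS hF))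
  exact ⟨g, hg, hgE⟩

theorem pow_eq_one_of_mem_autInducedBy (hS : IsPGroup p S) {r : MulAut E}
    (hr : r ∈ autInducedBy S E) : ∃ j, r ^ p ^ j = 1 := by
  obtain ⟨j, hj⟩ := (isPGroup_autInducedBy (P := E) hS) ⟨r, hr⟩
  exact ⟨j, congrArg Subtype.val hj⟩

/-- An essential subgroup has no invariant series all of whose indices divide `p`. -/
theorem false_of_series (hS : IsPGroup p S) (hF : F.IsSaturated p) (hE : F.IsEssential p E) {m : ℕ}
    (C : Fin (m + 1) → Subgroup E) (h0 : C 0 = ⊥) (hlast : C (Fin.last m) = ⊤)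
    (hinv : ∀ α ∈ F.autGroup E, ∀ i, ∀ x ∈ C i, α x ∈ C i)
    (hidx : ∀ i : Fin m, (C i.castSucc).relIndex (C i.succ) ∣ p) : False := by
  have hES := hE.1.1
  haveI : Finite E := finite_of_le hES
  obtain ⟨g, hg, hgE⟩ := exists_moved hS hF hE
  refine hgE (mem_of_invariant_series hS hE.1 (hE.isRadical hS hF) C h0 hlast hinv hg fun i x hx h => ?_)
  let r : MulAut E := E.normalizerMonoidHom ⟨g, hg.2⟩
  have hr : r ∈ autInducedBy S E := mem_autInducedBy_iff.mpr ⟨g, hg.1, hg.2, fun _ => rfl⟩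
  have hrA := autInducedBy_le_autGroup (F := F) hES hr
  obtain ⟨j, hj⟩ := pow_eq_one_of_mem_autInducedBy hS hr
  exact inv_mul_mem_of_step hj (hinv r hrA _) (hinv r hrA _) (hidx i) x hx

section Abelian

/-- The `p`-th powers of an abelian group. -/
def agemo (p : ℕ) (E : Subgroup Ω) (hab : ∀ a b : E, a * b = b * a) : Subgroup E where
  carrier := {x | ∃ y : E, y ^ p = x}
  one_mem' := ⟨1, one_pow p⟩
  mul_mem' := by
    rintro _ _ ⟨a, rfl⟩ ⟨b, rfl⟩
    exact ⟨a * b, (show Commute a b from hab a b).mul_pow p⟩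
  inv_mem' := by
    rintro _ ⟨a, rfl⟩
    exact ⟨a⁻¹, inv_pow a p⟩

variable {hab : ∀ a b : E, a * b = b * a}

theorem pow_mem_agemo (x : E) : x ^ p ∈ agemo p E hab := ⟨x, rfl⟩

theorem apply_mem_agemo (α : MulAut E) {x : E} (hx : x ∈ agemo p E hab) : α x ∈ agemo p E hab := by
  obtain ⟨y, rfl⟩ := hx
  exact ⟨α y, (map_pow α y p).symm⟩

/-- The automorphisms stabilising `agemo ≤ M ≤ E` stabilise a series, so form a `p`-group. -/
theorem isPGroup_stabMod (hS : IsPGroup p S) (hES : E ≤ S) (M : Subgroup E) (hM : agemo p E hab ≤ M)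
    (A : Subgroup (MulAut E)) (h1 : ∀ α ∈ A, ∀ x ∈ M, x⁻¹ * α x ∈ agemo p E hab)
    (h2 : ∀ α ∈ A, ∀ x, x⁻¹ * α x ∈ M) : IsPGroup p A := by
  haveI : Finite E := finite_of_le hES
  have hE : IsPGroup p E := hS.to_le hES
  obtain ⟨N, hN⟩ := hE.exists_card_eq
  -- the subgroup of `p ^ j`-th powers of a subgroup
  let pw : Subgroup E → ℕ → Subgroup E := fun H j =>
    { carrier := {x | ∃ y ∈ H, y ^ p ^ j = x}
      one_mem' := ⟨1, H.one_mem, one_pow _⟩
      mul_mem' := by
        rintro _ _ ⟨a, ha, rfl⟩ ⟨b, hb, rfl⟩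
        exact ⟨a * b, H.mul_mem ha hb, (show Commute a b from hab a b).mul_pow _⟩
      inv_mem' := by
        rintro _ ⟨a, ha, rfl⟩
        exact ⟨a⁻¹, H.inv_mem ha, inv_pow a _⟩ }
  let D : ℕ → Subgroup E := fun n => if Even n then pw ⊤ (n / 2) else pw M (n / 2)
  let C : Fin (2 * N + 1) → Subgroup E := fun i => D (2 * N - i.val)
  refine isPGroup_of_stabilises hE C ?_ ?_ A fun α hα i x hx => ?_
  · show D (2 * N - 0) = ⊥
    rw [Nat.sub_zero]
    show (if Even (2 * N) then pw ⊤ (2 * N / 2) else pw M (2 * N / 2)) = ⊥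
    rw [if_pos (even_two_mul N), Nat.mul_div_cancel_left N two_pos, eq_bot_iff]
    rintro _ ⟨y, -, rfl⟩
    rw [Subgroup.mem_bot, ← hN, pow_card_eq_one']
  · show D (2 * N - (Fin.last (2 * N)).val) = ⊤
    rw [Fin.val_last, Nat.sub_self, eq_top_iff]
    intro y _
    show y ∈ (if Even 0 then pw ⊤ (0 / 2) else pw M (0 / 2))
    rw [if_pos Even.zero]
    exact ⟨y, trivial, by simp⟩
  · have key : ∀ n, ∀ y ∈ D n, y⁻¹ * α y ∈ D (n + 1) := by
      intro n y hy
      have hstep : ∀ (z : E) (k : ℕ), (z ^ k)⁻¹ * α (z ^ k) = (z⁻¹ * α z) ^ k := fun z k => by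
        rw [map_pow, (show Commute z⁻¹ (α z) from hab _ _).mul_pow, inv_pow]
      rcases Nat.even_or_odd n with hn | hn
      · have hn1 : ¬ Even (n + 1) := by rw [Nat.even_add_one, not_not]; exact hn
        simp only [D, if_pos hn] at hy
        simp only [D, if_neg hn1]
        obtain ⟨z, -, rfl⟩ := hy
        refine ⟨z⁻¹ * α z, h2 α hα z, ?_⟩
        rw [hstep]
        obtain ⟨t, rfl⟩ := hn
        rw [show (t + t + 1) / 2 = t by omega, show (t + t) / 2 = t by omega]
      · have hn0 : ¬ Even n := Nat.not_even_iff_odd.mpr hn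
        have hn1 : Even (n + 1) := by rw [Nat.even_add_one]; exact hn0
        simp only [D, if_neg hn0] at hy
        simp only [D, if_pos hn1]
        obtain ⟨z, hz, rfl⟩ := hy
        obtain ⟨w, hw⟩ := h1 α hα z hz
        refine ⟨w, trivial, ?_⟩
        rw [hstep, ← hw, ← pow_mul, ← pow_succ']
        obtain ⟨t, rfl⟩ := hn
        rw [show (2 * t + 1 + 1) / 2 = t + 1 by omega, show (2 * t + 1) / 2 = t by omega]
    have hi : 2 * N - i.castSucc.val = (2 * N - i.succ.val) + 1 := by
      have := i.isLt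
      simp only [Fin.val_castSucc, Fin.val_succ]
      omega
    show x⁻¹ * α x ∈ D (2 * N - i.castSucc.val)
    rw [hi]
    exact key _ x hx

/-- A normal `p`-group of automorphisms of an abelian essential subgroup is trivial. -/
theorem eq_one_of_normal_pgroup (hS : IsPGroup p S) (hF : F.IsSaturated p) (hE : F.IsEssential p E)
    (hab : ∀ a b : E, a * b = b * a) {N : Subgroup (F.autGroup E)} (hn : N.Normal) (hN : IsPGroup p N)
    {α : F.autGroup E} (hα : α ∈ N) : α = 1 := by
  haveI := finite_autGroup (F := F) hE.1.1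
  obtain ⟨u, hu⟩ := (hE.isRadical hS hF).2.le ⟨α, CfsgLib.le_pCore hN hα, rfl⟩
  refine Subtype.ext ?_
  show (α : MulAut E) = 1
  rw [show (α : MulAut E) = _ from hu.symm]
  exact MulEquiv.ext fun x => by simp [MulAut.conj_apply, hab u x]

/-- An abelian essential subgroup has no invariant series of steps dividing `p` above its powers. -/
theorem false_of_mid (hS : IsPGroup p S) (hF : F.IsSaturated p) (hE : F.IsEssential p E)
    (hab : ∀ a b : E, a * b = b * a) {M : Subgroup E} (hM : agemo p E hab ≤ M)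
    (hinv : ∀ α ∈ F.autGroup E, ∀ x ∈ M, α x ∈ M)
    (h1 : (agemo p E hab).relIndex M ∣ p) (h2 : M.index ∣ p) : False := by
  have hES := hE.1.1
  haveI : Finite E := finite_of_le hES
  haveI := finite_autGroup (F := F) hES
  obtain ⟨g, hg, hgE⟩ := exists_moved hS hF hE
  let T : Subgroup (F.autGroup E) :=
    { carrier := {a | (∀ x ∈ M, x⁻¹ * (a : MulAut E) x ∈ agemo p E hab) ∧ ∀ x, x⁻¹ * (a : MulAut E) x ∈ M}
      one_mem' := ⟨fun x _ => by simp, fun x => by simp⟩
      mul_mem' := by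
        intro a b ha hb
        refine ⟨fun x hx => ?_, fun x => ?_⟩
        · have := (agemo p E hab).mul_mem (hb.1 x hx) (ha.1 _ (hinv _ b.2 x hx))
          simpa [MulAut.mul_apply, mul_assoc] using this
        · have := M.mul_mem (hb.2 x) (ha.2 ((b : MulAut E) x))
          simpa [MulAut.mul_apply, mul_assoc] using this
      inv_mem' := by
        intro a ha
        refine ⟨fun x hx => ?_, fun x => ?_⟩
        · have := (agemo p E hab).inv_mem (ha.1 _ (hinv _ ((F.autGroup E).inv_mem a.2) x hx))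
          simpa using this
        · have := M.inv_mem (ha.2 ((a : MulAut E)⁻¹ x))
          simpa using this }
  have hTn : T.Normal := by
    refine ⟨fun a ha b => ⟨fun x hx => ?_, fun x => ?_⟩⟩
    · have := apply_mem_agemo (b : MulAut E) (ha.1 _ (hinv _ ((F.autGroup E).inv_mem b.2) x hx))
      simpa [MulAut.mul_apply] using this
    · have := hinv _ b.2 _ (ha.2 ((b : MulAut E)⁻¹ x))
      simpa [MulAut.mul_apply] using this
  have hTp : IsPGroup p T := by
    refine IsPGroup.of_equiv ?_ (T.equivMapOfInjective _ (F.autGroup E).subtype_injective).symm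
    refine isPGroup_stabMod hS hES M hM _ ?_ ?_ <;> rintro _ ⟨a, ha, rfl⟩
    exacts [ha.1, ha.2]
  let r : MulAut E := E.normalizerMonoidHom ⟨g, hg.2⟩
  have hr : r ∈ autInducedBy S E := mem_autInducedBy_iff.mpr ⟨g, hg.1, hg.2, fun _ => rfl⟩
  have hrA := autInducedBy_le_autGroup (F := F) hES hr
  obtain ⟨j, hj⟩ := pow_eq_one_of_mem_autInducedBy hS hr
  have hrT : (⟨r, hrA⟩ : F.autGroup E) ∈ T :=
    ⟨inv_mul_mem_of_step hj (fun x => apply_mem_agemo r) (hinv r hrA) h1,
      fun x => inv_mul_mem_of_step hj (L := ⊤) (hinv r hrA) (fun _ _ => trivial)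
        (by rwa [Subgroup.relIndex_top_right]) x trivial⟩
  have hr1 := congrArg Subtype.val (eq_one_of_normal_pgroup hS hF hE hab hTn hTp hrT)
  refine hgE (hE.1.centralizerIn_le_self ⟨hg.1, Subgroup.mem_centralizer_iff.mpr fun w hw => ?_⟩)
  have := congrArg (fun a : MulAut E => ((a ⟨w, hw⟩ : E) : Ω)) hr1
  exact (mul_inv_eq_iff_eq_mul.mp (show g * w * g⁻¹ = w from this)).symm

/-- The `p`-th powers of an abelian essential subgroup have index at least `p ^ 2`. -/
theorem not_dvd_index_agemo (hS : IsPGroup p S) (hF : F.IsSaturated p) (hE : F.IsEssential p E)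
    (hab : ∀ a b : E, a * b = b * a) : ¬ (agemo p E hab).index ∣ p := fun h =>
  false_of_mid hS hF hE hab le_rfl (fun α _ _ hx => apply_mem_agemo α hx)
    (by rw [Subgroup.relIndex_self]; exact one_dvd p) h

end Abelian

end Cfsg.EssentialSmall
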