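import Cfsg.Agent.Lib.Fusion.EssentialSmall.RankTwo
import Cfsg.Agent.Lib.PGroup.CyclicMax
import Cfsg.Agent.Lib.ExtraspecialTwo
import Cfsg.Agent.Lib.RankFrattini

/-!
Essential subgroups of order `p ^ 3`.
-/

set_option autoImplicit false
set_option linter.unusedSectionVars false

namespace Cfsg.EssentialSmall

open Cfsg FusionSystem
open scoped commutatorElement

variable {p : ℕ} [Fact p.Prime]

/-- A nonabelian group of order `p ^ 3` is extraspecial, and its `p`-th powers are central. -/
theorem extraspecial_cube {E : Type*} [Group E] [Finite E] (hcard : Nat.card E = p ^ 3)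
    (hnab : ¬ ∀ a b : E, a * b = b * a) :
    IsExtraspecial p E ∧ (∀ x : E, x ^ p ∈ Subgroup.center E) ∧ commutator E = Subgroup.center E := by
  have hpp : p.Prime := Fact.out
  have hE : IsPGroup p E := IsPGroup.of_card hcard
  set Z := Subgroup.center E with hZ
  haveI : Nontrivial E := Finite.one_lt_card_iff_nontrivial.mp (hcard ▸ Nat.one_lt_pow (by norm_num) hpp.one_lt)
  obtain ⟨i, hi3, hi⟩ := (Nat.dvd_prime_pow hpp).mp (hcard ▸ Z.card_subgroup_dvd_card)
  have hncyc : ¬ IsCyclic (E ⧸ Z) := fun hc => hnab fun a b =>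
    commutative_of_cyclic_center_quotient (QuotientGroup.mk' Z) (QuotientGroup.ker_mk' _).le a b
  have hqi : Z.index = p ^ (3 - i) := by
    have h := Z.card_mul_index
    rw [hcard, hi] at h
    refine Nat.eq_of_mul_eq_mul_left (pow_pos hpp.pos i) ?_
    rw [h, ← pow_add, Nat.add_sub_cancel' hi3]
  have hi1 : i = 1 := by
    have h0 : i ≠ 0 := by
      rintro rfl
      haveI := hE.center_nontrivial
      have := Finite.one_lt_card (α := Z)
      rw [hi, pow_zero] at this
      omega
    by_contra h1
    refine hncyc ?_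
    rcases (show i = 2 ∨ i = 3 by omega) with rfl | rfl
    · exact isCyclic_of_prime_card (p := p) (by rw [← Subgroup.index_eq_card, hqi]; simp)
    · haveI : Subsingleton (E ⧸ Z) := (Nat.card_eq_one_iff_unique.mp (by
        rw [← Subgroup.index_eq_card, hqi]; simp)).1
      exact isCyclic_of_subsingleton
  subst hi1
  rw [pow_one] at hi
  have hq : Nat.card (E ⧸ Z) = p ^ 2 := by rw [← Subgroup.index_eq_card, hqi]
  have hpow : ∀ x : E, x ^ p ∈ Z := by
    intro x
    rw [← QuotientGroup.eq_one_iff, QuotientGroup.mk_pow, ← orderOf_dvd_iff_pow_eq_one]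
    obtain ⟨j, hj, hje⟩ := (Nat.dvd_prime_pow hpp).mp (hq ▸ orderOf_dvd_natCard (QuotientGroup.mk x : E ⧸ Z))
    rcases (show j ≤ 1 ∨ j = 2 by omega) with h | rfl
    · rw [hje]
      exact (pow_dvd_pow p h).trans (by rw [pow_one])
    · exact absurd (isCyclic_of_orderOf_eq_card _ (by rw [hje, hq])) hncyc
  have hle : commutator E ≤ Z := by
    rw [commutator_def, Subgroup.commutator_le]
    intro a _ b _
    rw [← QuotientGroup.eq_one_iff]
    show ((⁅a, b⁆ : E) : E ⧸ Z) = 1
    rw [← QuotientGroup.mk'_apply, map_commutatorElement, commutatorElement_eq_one_iff_mul_comm]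
    exact IsPGroup.commutative_of_card_eq_prime_sq hq _ _
  have hcomm : commutator E = Z := by
    rcases (Nat.dvd_prime hpp).mp (hi ▸ Subgroup.card_dvd_of_le hle) with h | h
    · refine absurd (fun a b => ?_) hnab
      have hm : ⁅a, b⁆ ∈ commutator E := Subgroup.commutator_mem_commutator (Subgroup.mem_top a) (Subgroup.mem_top b)
      rw [Subgroup.eq_bot_of_card_eq _ h, Subgroup.mem_bot] at hm
      exact commutatorElement_eq_one_iff_mul_comm.mp hm
    · exact Subgroup.eq_of_le_of_card_ge hle (by rw [hi, h])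
  refine ⟨⟨⟨hE, le_antisymm ?_ ?_, hcomm⟩, hi⟩, hpow, hcomm⟩
  · exact CfsgLib.RankFrattini.frattini_le_of_elementary hE _
      (fun a b => hle (Subgroup.commutator_mem_commutator (Subgroup.mem_top a) (Subgroup.mem_top b))) hpow
  · show Z ≤ _
    rw [← hcomm]
    exact CfsgLib.commutator_le_frattini_pGroup hE

variable {Ω : Type*} [Group Ω] {S E : Subgroup Ω} [Finite S] {F : FusionSystem S}

/-- An invariant subgroup of index `p` above the centre contradicts essentiality. -/
theorem false_of_index_cube (hS : IsPGroup p S) (hF : F.IsSaturated p) (hE : F.IsEssential p E)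
    (hcard : Nat.card E = p ^ 3) (hZ : Nat.card (Subgroup.center E) = p) {W : Subgroup E}
    (hW : W.index = p) (hle : Subgroup.center E ≤ W) (hinv : ∀ α ∈ F.autGroup E, ∀ x ∈ W, α x ∈ W) :
    False := by
  have hpp : p.Prime := Fact.out
  haveI : Finite E := finite_of_le hE.1.1
  have hWc : Nat.card W = p ^ 2 := by
    have h := W.card_mul_index
    rw [hcard, hW, show p ^ 3 = p ^ 2 * p from pow_succ p 2] at h
    exact Nat.eq_of_mul_eq_mul_right hpp.pos h
  refine false_of_series hS hF hE (m := 3) ![⊥, Subgroup.center E, W, ⊤] rfl rfl ?_ ?_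
  · intro α hα i x hx
    fin_cases i
    · simp only [Fin.zero_eta, Matrix.cons_val_zero, Subgroup.mem_bot] at hx ⊢
      rw [hx, map_one]
    · exact Subgroup.mem_center_iff.mpr fun y => by
        have h := congrArg α (Subgroup.mem_center_iff.mp hx (α⁻¹ y))
        simpa using h
    · exact hinv α hα x hx
    · trivial
  · intro i
    fin_cases i
    · show (⊥ : Subgroup E).relIndex (Subgroup.center E) ∣ p
      rw [Subgroup.relIndex_bot_left, hZ]
    · show (Subgroup.center E).relIndex W ∣ p
      have h : Nat.card (Subgroup.center E) * (Subgroup.center E).relIndex W = Nat.card W := by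
        rw [← Nat.card_congr (Subgroup.subgroupOfEquivOfLe hle).toEquiv, Subgroup.relIndex, Subgroup.card_mul_index]
      rw [hZ, hWc, pow_two] at h
      rw [Nat.eq_of_mul_eq_mul_left hpp.pos h]
    · show W.relIndex (⊤ : Subgroup E) ∣ p
      rw [Subgroup.relIndex_top_right, hW]

theorem exponent_cube (hS : IsPGroup p S) (hF : F.IsSaturated p) (hE : F.IsEssential p E)
    (hcard : Nat.card E = p ^ 3) (hnab : ¬ ∀ a b : E, a * b = b * a) (hp2 : p ≠ 2) (x : E) : x ^ p = 1 := by
  have hpp : p.Prime := Fact.out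
  haveI : Finite E := finite_of_le hE.1.1
  obtain ⟨⟨-, hZc⟩, hpow, hcomm⟩ := extraspecial_cube hcard hnab
  have hcp : ∀ c ∈ Subgroup.center E, c ^ p = 1 := fun c hc => by
    have h : (⟨c, hc⟩ : Subgroup.center E) ^ Nat.card (Subgroup.center E) = 1 := pow_card_eq_one'
    rw [hZc] at h
    exact congrArg Subtype.val h
  let f : E →* Subgroup.center E :=
    { toFun := fun y => ⟨y ^ p, hpow y⟩
      map_one' := Subtype.ext (one_pow p)
      map_mul' := fun a b => Subtype.ext
        (CfsgLib.CyclicMax.mul_pow_of_central_commutators hp2 hcomm.le (fun c hc => hcp c (hcomm ▸ hc)) a b) }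
  by_contra hx
  have hd : Nat.card f.range ∣ p := hZc ▸ Subgroup.card_subgroup_dvd_card _
  refine false_of_index_cube hS hF hE hcard hZc (W := f.ker) ?_ (fun c hc => Subtype.ext (hcp c hc)) ?_
  · rw [Subgroup.index_ker]
    refine ((Nat.dvd_prime hpp).mp hd).resolve_left fun h1 => hx ?_
    have hm : f x ∈ f.range := ⟨x, rfl⟩
    rw [Subgroup.eq_bot_of_card_eq _ h1, Subgroup.mem_bot] at hm
    exact congrArg Subtype.val hm
  · intro α _ y hy
    refine Subtype.ext ?_
    show (α y) ^ p = 1
    rw [← map_pow, show y ^ p = 1 from congrArg Subtype.val (hy : f y = 1), map_one]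

theorem quaternion_cube [Fact (Nat.Prime 2)] {F : FusionSystem S} (hS : IsPGroup 2 S) (hF : F.IsSaturated 2)
    (hE : F.IsEssential 2 E) (hcard : Nat.card E = 2 ^ 3) (hnab : ¬ ∀ a b : E, a * b = b * a) :
    Nonempty (E ≃* QuaternionGroup 2) := by
  haveI : Finite E := finite_of_le hE.1.1
  obtain ⟨hx, hpow, -⟩ := extraspecial_cube (p := 2) hcard hnab
  obtain ⟨z, h⟩ := CfsgLib.ExtraTwo.ofExtraspecial hx
  by_cases hno : ∀ x : E, x * x = 1 → x ∈ Subgroup.center E
  · rcases (CfsgLib.ExtraTwo.small_cases h hno).2 with ⟨h2, -⟩ | ⟨-, he⟩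
    · rw [hcard] at h2; norm_num at h2
    · exact he
  exfalso
  obtain ⟨a, ha⟩ : ∃ a : E, a * a ≠ 1 := by
    by_contra hh
    push Not at hh
    refine hnab fun u v => ?_
    have hi : ∀ w : E, w⁻¹ = w := fun w => inv_eq_of_mul_eq_one_right (hh w)
    calc u * v = (u * v)⁻¹ := (hi _).symm
      _ = v * u := by rw [mul_inv_rev, hi, hi]
  have haz : a * a = z := (h.sq a).resolve_left ha
  have hao : orderOf a = 4 :=
    orderOf_eq_prime_pow (p := 2) (n := 1) (by rw [pow_one, pow_two]; exact ha) (h.pow_four a)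
  set W := Subgroup.zpowers a with hW
  have hWi : W.index = 2 := by
    have hm := W.card_mul_index
    rw [Nat.card_zpowers, hao, hcard] at hm
    omega
  have hzW : z ∈ W := haz ▸ W.mul_mem (Subgroup.mem_zpowers a) (Subgroup.mem_zpowers a)
  have hle : Subgroup.center E ≤ W := fun c hc => by
    rcases (h.center_iff c).mp hc with rfl | rfl
    exacts [W.one_mem, hzW]
  have hfour : ∀ w ∈ W, w = 1 ∨ w = a ∨ w = z ∨ w = z * a := by
    rintro w ⟨i, rfl⟩
    show a ^ i = 1 ∨ a ^ i = a ∨ a ^ i = z ∨ a ^ i = z * a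
    rw [← zpow_mod_orderOf, hao]
    have h0 : 0 ≤ i % ((4 : ℕ) : ℤ) := Int.emod_nonneg _ (by norm_num)
    have h4 : i % ((4 : ℕ) : ℤ) < 4 := Int.emod_lt_of_pos _ (by norm_num)
    have e3 : a ^ (3 : ℤ) = z * a := by rw [show (3 : ℤ) = ((3 : ℕ) : ℤ) from rfl, zpow_natCast, pow_succ, pow_two, haz]
    have e2 : a ^ (2 : ℤ) = z := by rw [show (2 : ℤ) = ((2 : ℕ) : ℤ) from rfl, zpow_natCast, pow_two, haz]
    rcases (show i % ((4 : ℕ) : ℤ) = 0 ∨ i % ((4 : ℕ) : ℤ) = 1 ∨ i % ((4 : ℕ) : ℤ) = 2 ∨ i % ((4 : ℕ) : ℤ) = 3 by omega)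
      with e | e | e | e <;> rw [e]
    · exact Or.inl (zpow_zero a)
    · exact Or.inr (Or.inl (zpow_one a))
    · exact Or.inr (Or.inr (Or.inl e2))
    · exact Or.inr (Or.inr (Or.inr e3))
  -- every element of order four lies in `W`
  have hkey : ∀ b : E, b * b ≠ 1 → b ∈ W := by
    intro b hb
    by_contra hbW
    have hbz : b * b = z := (h.sq b).resolve_left hb
    haveI hWn : W.Normal := Subgroup.normal_of_index_eq_two hWi
    have hza := (h.z_comm a).eq
    have hconj : b⁻¹ * a * b = z * a := by
      have hm : b⁻¹ * a * b ∈ W := by simpa using hWn.conj_mem a (Subgroup.mem_zpowers a) b⁻¹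
      rcases hfour _ hm with e | e | e | e
      · exfalso
        refine ha ?_
        rw [show a = b * (b⁻¹ * a * b) * b⁻¹ by group, e]
        simp
      · exfalso
        -- `b` would commute with `a`, making the group abelian
        have hcomm : a * b = b * a := by
          calc a * b = b * (b⁻¹ * a * b) := by group
            _ = b * a := by rw [e]
        refine hnab fun u v => ?_
        have hgen : ∀ u : E, Commute u a ∧ Commute u b := by
          intro u
          obtain ⟨i, j, rfl⟩ := CfsgLib.CyclicMax.exists_decomp hWi rfl hbW u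
          exact ⟨((Commute.refl a).zpow_left i).mul_left ((show Commute b a from hcomm.symm).zpow_left j),
            ((show Commute a b from hcomm).zpow_left i).mul_left ((Commute.refl b).zpow_left j)⟩
        obtain ⟨i, j, rfl⟩ := CfsgLib.CyclicMax.exists_decomp hWi rfl hbW v
        exact (((hgen u).1.zpow_right i).mul_right ((hgen u).2.zpow_right j)).eq
      · exfalso
        refine h.ne ?_
        have ea : a = z := by
          rw [show a = b * (b⁻¹ * a * b) * b⁻¹ by group, e, (h.z_comm b).eq, mul_inv_cancel_right]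
        exact absurd (ea ▸ h.zz) ha
      · exact e
    refine hno fun x hx2 => ?_
    by_cases hxW : x ∈ W
    · rcases hfour x hxW with rfl | rfl | rfl | rfl
      · exact one_mem _
      · exact absurd hx2 ha
      · exact (h.center_iff _).mpr (Or.inr rfl)
      · exfalso
        refine ha ?_
        calc a * a = z * z * (a * a) := by rw [h.zz, one_mul]
          _ = z * (z * a) * a := by group
          _ = z * (a * z) * a := by rw [hza]
          _ = z * a * (z * a) := by group
          _ = 1 := hx2
    · exfalso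
      -- `x = b * w` with `w ∈ W`, whose square is `z`
      have hw : b⁻¹ * x ∈ W := by
        rw [Subgroup.mul_mem_iff_of_index_two hWi]
        exact iff_of_false (fun e => hbW (by simpa using W.inv_mem e)) hxW
      refine h.ne ?_
      rw [← hx2]
      have hconj' : ∀ i : ℤ, b⁻¹ * a ^ i * b = (z * a) ^ i := fun i => by
        rw [← hconj]
        have := (conj_zpow (a := b⁻¹) (b := a) (i := i))
        simpa using this.symm
      obtain ⟨i, hi⟩ := hw
      have hi' : a ^ i = b⁻¹ * x := hi
      have ex : x = b * a ^ i := by rw [hi', mul_inv_cancel_left]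
      rw [ex, show b * a ^ i * (b * a ^ i) = (b * b) * (b⁻¹ * a ^ i * b) * a ^ i by group, hbz, hconj',
        mul_assoc z, ← (show Commute (z * a) a from (h.z_comm a).symm.mul_left (Commute.refl a)).mul_zpow, mul_assoc z a a, haz,
        h.zz, one_zpow, mul_one]
  refine false_of_index_cube hS hF hE hcard hx.2 hWi hle fun α _ w hw => ?_
  rcases hfour w hw with rfl | rfl | rfl | rfl
  · rw [map_one]; exact W.one_mem
  · refine hkey _ fun e => ha ?_
    rw [← map_mul] at e
    exact α.injective (e.trans (map_one α).symm)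
  · refine hle (Subgroup.mem_center_iff.mpr fun y => ?_)
    have h1 := congrArg α (h.z_comm (α⁻¹ y)).eq
    simpa using h1
  · refine hkey _ fun e => ha ?_
    rw [← map_mul] at e
    have e1 := α.injective (e.trans (map_one α).symm)
    calc a * a = z * z * (a * a) := by rw [h.zz, one_mul]
      _ = z * (z * a) * a := by group
      _ = z * (a * z) * a := by rw [(h.z_comm a).eq]
      _ = z * a * (z * a) := by group
      _ = 1 := e1

end Cfsg.EssentialSmall
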