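import Cfsg.Agent.Lib.Fusion.EssentialSmall.Cube
import Cfsg.Agent.Lib.ExtraspecialIndexP
import Cfsg.Agent.Lib.PGroup.CyclicMax
import Mathlib.Algebra.Group.TransferInstance

/-!
Essential subgroups of order `p ^ 4`.
-/

set_option autoImplicit false
set_option linter.unusedSectionVars false

namespace Cfsg.EssentialSmall.Quad

/-- A carrier in `Type` for a finite group of order `n`. -/
def Carrier (n : ℕ) : Type := Fin n

open Cfsg FusionSystem
open scoped commutatorElement

variable {p : ℕ} [Fact p.Prime]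

section Group

variable {G : Type*} [Group G] [Finite G]

theorem card_mul_relIndex {A B : Subgroup G} (h : A ≤ B) : Nat.card A * A.relIndex B = Nat.card B := by
  have := Subgroup.relIndex_mul_relIndex ⊥ A B bot_le h
  rwa [Subgroup.relIndex_bot_left, Subgroup.relIndex_bot_left] at this

/-- The homomorphism out of `ZMod n` given by an element killed by `n`. -/
def powHom (u : G) {n : ℕ} [NeZero n] (h : u ^ n = 1) : Multiplicative (ZMod n) →* G where
  toFun i := u ^ i.toAdd.val
  map_one' := by simp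
  map_mul' i j := by
    rw [← pow_add, toAdd_mul, ZMod.val_add, ← pow_eq_pow_mod _ h]

theorem mem_range_powHom (u : G) {n : ℕ} [NeZero n] (h : u ^ n = 1) : u ∈ (powHom u h).range := by
  refine ⟨Multiplicative.ofAdd 1, ?_⟩
  show u ^ ((1 : ZMod n)).val = u
  rw [← Nat.cast_one, ZMod.val_natCast, ← pow_eq_pow_mod _ h, pow_one]

theorem card_sup_zpowers_le {K : Subgroup G} (hK : K.Normal) {a : G} (ha : a ^ p ∈ K) :
    Nat.card (K ⊔ Subgroup.zpowers a : Subgroup G) ≤ Nat.card K * p := by
  have hpp : p.Prime := Fact.out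
  haveI := hK
  have hsurj : ∀ x : (K ⊔ Subgroup.zpowers a : Subgroup G), ∃ q : K × Fin p, ((q.1 : G) * a ^ (q.2 : ℕ)) = x := by
    rintro ⟨x, hx⟩
    obtain ⟨k, hk, _, ⟨i, rfl⟩, rfl⟩ := Subgroup.mem_sup_of_normal_left.mp hx
    have h0 : 0 ≤ i % (p : ℤ) := Int.emod_nonneg _ (by exact_mod_cast hpp.ne_zero)
    have h1 : i % (p : ℤ) < p := Int.emod_lt_of_pos _ (by exact_mod_cast hpp.pos)
    refine ⟨⟨⟨k * (a ^ p) ^ (i / (p : ℤ)), K.mul_mem hk (K.zpow_mem ha _)⟩, ⟨(i % (p : ℤ)).toNat, by omega⟩⟩, ?_⟩
    show k * (a ^ p) ^ (i / (p : ℤ)) * a ^ (i % (p : ℤ)).toNat = k * a ^ i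
    rw [← zpow_natCast a (i % (p : ℤ)).toNat, Int.toNat_of_nonneg h0, ← zpow_natCast a p, ← zpow_mul, mul_assoc, ← zpow_add,
      Int.mul_ediv_add_emod]
  choose f hf using hsurj
  refine le_trans (Nat.card_le_card_of_injective f fun x y e => Subtype.ext ?_) (le_of_eq ?_)
  · rw [← hf x, ← hf y, e]
  · rw [Nat.card_prod, Nat.card_fin]

theorem lt_card_mul {A B : Subgroup G} (hG : IsPGroup p G) (h : A < B) : Nat.card A * p ≤ Nat.card B := by
  rw [← card_mul_relIndex h.le]
  refine Nat.mul_le_mul_left _ ?_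
  obtain ⟨m, hm⟩ := (hG.to_subgroup B).index (A.subgroupOf B)
  have hne : A.relIndex B ≠ 1 := fun e => h.not_ge (Subgroup.relIndex_eq_one.1 e)
  show p ≤ (A.subgroupOf B).index
  rw [hm]
  rcases m with _ | m
  · exact absurd (hm.trans (pow_zero p)) hne
  · rw [pow_succ]; exact Nat.le_mul_of_pos_left _ (pow_pos (Fact.out : p.Prime).pos m)

theorem apply_mem_center (α : MulAut G) {x : G} (hx : x ∈ Subgroup.center G) : α x ∈ Subgroup.center G :=
  Subgroup.mem_center_iff.mpr fun y => by
    have h := congrArg α (Subgroup.mem_center_iff.mp hx (α⁻¹ y))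
    simpa using h

/-- A nonabelian group of order `p ^ 4` has centre of order `p` or `p ^ 2`. -/
theorem card_center (hcard : Nat.card G = p ^ 4) (hnab : ¬ ∀ a b : G, a * b = b * a) :
    Nat.card (Subgroup.center G) = p ∨ Nat.card (Subgroup.center G) = p ^ 2 := by
  have hpp : p.Prime := Fact.out
  have hG : IsPGroup p G := IsPGroup.of_card hcard
  set Z := Subgroup.center G
  haveI : Nontrivial G := Finite.one_lt_card_iff_nontrivial.mp (hcard ▸ Nat.one_lt_pow (by norm_num) hpp.one_lt)
  obtain ⟨i, hi4, hi⟩ := (Nat.dvd_prime_pow hpp).mp (hcard ▸ Z.card_subgroup_dvd_card)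
  have hqi : Z.index = p ^ (4 - i) := by
    have h := Z.card_mul_index
    rw [hcard, hi] at h
    refine Nat.eq_of_mul_eq_mul_left (pow_pos hpp.pos i) ?_
    rw [h, ← pow_add, Nat.add_sub_cancel' hi4]
  have hncyc : ¬ IsCyclic (G ⧸ Z) := fun hc => hnab fun a b =>
    commutative_of_cyclic_center_quotient (QuotientGroup.mk' Z) (QuotientGroup.ker_mk' _).le a b
  have h0 : i ≠ 0 := by
    rintro rfl
    haveI := hG.center_nontrivial
    have := Finite.one_lt_card (α := Z)
    rw [hi, pow_zero] at this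
    omega
  rcases (show i = 1 ∨ i = 2 ∨ i = 3 ∨ i = 4 by omega) with rfl | rfl | rfl | rfl
  · exact Or.inl (hi.trans (pow_one p))
  · exact Or.inr hi
  · exact absurd (isCyclic_of_prime_card (p := p) (by rw [← Subgroup.index_eq_card, hqi, pow_one])) hncyc
  · refine absurd ?_ hncyc
    haveI : Subsingleton (G ⧸ Z) := (Nat.card_eq_one_iff_unique.mp (by
      rw [← Subgroup.index_eq_card, hqi]; simp)).1
    exact isCyclic_of_subsingleton

/-- The invariants of a group of order `p ^ 4` with centre of order `p ^ 2`. -/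
theorem center_sq_data (hcard : Nat.card G = p ^ 4) (hZ : Nat.card (Subgroup.center G) = p ^ 2) :
    (∀ x : G, x ^ p ∈ Subgroup.center G) ∧ ∃ a b : G, ∃ L : Subgroup G, Nat.card L = p ∧ L ≤ Subgroup.center G ∧
      commutator G = L ∧ ⁅a, b⁆ ≠ 1 ∧ Subgroup.center G ⊔ Subgroup.zpowers a ⊔ Subgroup.zpowers b = ⊤ := by
  have hpp : p.Prime := Fact.out
  have hG : IsPGroup p G := IsPGroup.of_card hcard
  set Z := Subgroup.center G
  have hq : Nat.card (G ⧸ Z) = p ^ 2 := by
    have h := Z.card_mul_index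
    rw [hcard, hZ, show p ^ 4 = p ^ 2 * p ^ 2 by rw [← pow_add]] at h
    rw [← Subgroup.index_eq_card]
    exact Nat.eq_of_mul_eq_mul_left (pow_pos hpp.pos 2) h
  have hle : commutator G ≤ Z := by
    rw [commutator_def, Subgroup.commutator_le]
    intro a _ b _
    rw [← QuotientGroup.eq_one_iff]
    show ((⁅a, b⁆ : G) : G ⧸ Z) = 1
    rw [← QuotientGroup.mk'_apply, map_commutatorElement, commutatorElement_eq_one_iff_mul_comm]
    exact IsPGroup.commutative_of_card_eq_prime_sq hq _ _
  obtain ⟨a, haZ⟩ : ∃ a, a ∉ Z := by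
    by_contra hh
    push Not at hh
    have e : Z = ⊤ := eq_top_iff.mpr fun x _ => hh x
    rw [e, Subgroup.card_top, hcard] at hZ
    have := Nat.pow_right_injective hpp.two_le hZ
    omega
  obtain ⟨b, hab⟩ : ∃ b : G, ⁅a, b⁆ ≠ 1 := by
    by_contra hh
    push Not at hh
    exact haZ (Subgroup.mem_center_iff.mpr fun g => (commutatorElement_eq_one_iff_mul_comm.mp (hh g)).symm)
  have hcz : ∀ u v w : G, ⁅u, v⁆ * w = w * ⁅u, v⁆ := fun u v w =>
    (Subgroup.mem_center_iff.mp (hle (Subgroup.commutator_mem_commutator (Subgroup.mem_top u) (Subgroup.mem_top v))) w).symm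
  have hmulr : ∀ u v w : G, ⁅u, v * w⁆ = ⁅u, v⁆ * ⁅u, w⁆ := by
    intro u v w
    calc ⁅u, v * w⁆ = ⁅u, v⁆ * (v * ⁅u, w⁆) * v⁻¹ := by simp only [commutatorElement_def]; group
      _ = ⁅u, v⁆ * (⁅u, w⁆ * v) * v⁻¹ := by rw [hcz u w v]
      _ = _ := by group
  have hinv : ∀ u v : G, ⁅u, v⁆⁻¹ = ⁅v, u⁆ := fun u v => commutatorElement_inv u v
  -- no cyclic quotient by the centre
  have hncyc : ¬ IsCyclic (G ⧸ Z) := fun hc => hab (commutatorElement_eq_one_iff_mul_comm.mpr
    (commutative_of_cyclic_center_quotient (QuotientGroup.mk' Z) (QuotientGroup.ker_mk' _).le a b))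
  have hpow : ∀ x : G, x ^ p ∈ Z := by
    intro x
    rw [← QuotientGroup.eq_one_iff, QuotientGroup.mk_pow, ← orderOf_dvd_iff_pow_eq_one]
    obtain ⟨j, hj, hje⟩ := (Nat.dvd_prime_pow hpp).mp (hq ▸ orderOf_dvd_natCard (QuotientGroup.mk x : G ⧸ Z))
    rcases (show j ≤ 1 ∨ j = 2 by omega) with h | rfl
    · rw [hje]
      exact (pow_dvd_pow p h).trans (by rw [pow_one])
    · exact absurd (isCyclic_of_orderOf_eq_card _ (by rw [hje, hq])) hncyc
  have hpowc : ∀ u v : G, ⁅u, v⁆ ^ p = 1 := by
    intro u v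
    have h : ∀ n : ℕ, ⁅u, v ^ n⁆ = ⁅u, v⁆ ^ n := by
      intro n
      induction n with
      | zero => simp
      | succ n ih => rw [pow_succ, hmulr, ih, pow_succ]
    rw [← h, commutatorElement_eq_one_iff_mul_comm]
    exact Subgroup.mem_center_iff.mp (hpow v) u
  have hgen : Z ⊔ Subgroup.zpowers a ⊔ Subgroup.zpowers b = ⊤ := by
    have h1 : Z < Z ⊔ Subgroup.zpowers a :=
      lt_of_le_of_ne le_sup_left fun e => haZ (e ▸ Subgroup.mem_sup_right (Subgroup.mem_zpowers a))
    have h2 : Z ⊔ Subgroup.zpowers a < Z ⊔ Subgroup.zpowers a ⊔ Subgroup.zpowers b := by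
      refine lt_of_le_of_ne le_sup_left fun e => hab ?_
      have hc : Z ⊔ Subgroup.zpowers a ≤ Subgroup.centralizer {a} :=
        sup_le (fun z hz => Subgroup.mem_centralizer_singleton_iff.mpr (Subgroup.mem_center_iff.mp hz a).symm)
          (Subgroup.zpowers_le.mpr (Subgroup.mem_centralizer_singleton_iff.mpr rfl))
      have := Subgroup.mem_centralizer_singleton_iff.mp (hc (e.ge (Subgroup.mem_sup_right (Subgroup.mem_zpowers b))))
      exact commutatorElement_eq_one_iff_mul_comm.mpr this.symm
    refine Subgroup.eq_top_of_le_card _ ?_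
    have h3 := lt_card_mul hG h1
    have h4 := lt_card_mul hG h2
    rw [hZ] at h3
    rw [hcard]
    calc p ^ 4 = p ^ 2 * p * p := by ring
      _ ≤ _ := (Nat.mul_le_mul_right p h3).trans h4
  set c := ⁅a, b⁆ with hc
  have hco : orderOf c = p := orderOf_eq_prime (hpowc a b) hab
  set L := Subgroup.zpowers c with hL
  have hLcomm : ∀ u v : G, ⁅u, v⁆ ∈ L := by
    have step : ∀ u : G, ⁅u, a⁆ ∈ L → ⁅u, b⁆ ∈ L → ∀ v : G, ⁅u, v⁆ ∈ L := by
      intro u hua hub v
      let D : Subgroup G :=
        { carrier := {v | ⁅u, v⁆ ∈ L}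
          one_mem' := by simp
          mul_mem' := fun {x y} hx hy => by show ⁅u, x * y⁆ ∈ L; rw [hmulr]; exact L.mul_mem hx hy
          inv_mem' := fun {x} hx => by
            show ⁅u, x⁻¹⁆ ∈ L
            have h1 : ⁅u, x⁻¹⁆ * ⁅u, x⁆ = 1 := by rw [← hmulr]; simp
            rw [eq_inv_of_mul_eq_one_left h1]; exact L.inv_mem hx }
      have : (⊤ : Subgroup G) ≤ D := by
        rw [← hgen]
        refine sup_le (sup_le (fun z hz => ?_) (Subgroup.zpowers_le.mpr hua)) (Subgroup.zpowers_le.mpr hub)
        show ⁅u, z⁆ ∈ L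
        rw [commutatorElement_eq_one_iff_mul_comm.mpr (Subgroup.mem_center_iff.mp hz u)]
        exact L.one_mem
      exact this (Subgroup.mem_top v)
    have hA : ∀ v, ⁅a, v⁆ ∈ L := step a (by simp) (Subgroup.mem_zpowers c)
    have hB : ∀ v, ⁅b, v⁆ ∈ L := step b (by rw [← hinv]; exact L.inv_mem (Subgroup.mem_zpowers c)) (by simp)
    intro u v
    refine step u ?_ ?_ v
    · rw [← hinv]; exact L.inv_mem (hA u)
    · rw [← hinv]; exact L.inv_mem (hB u)
  have hcm : c ∈ commutator G := Subgroup.commutator_mem_commutator (Subgroup.mem_top a) (Subgroup.mem_top b)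
  refine ⟨hpow, a, b, L, (Nat.card_zpowers c).trans hco, Subgroup.zpowers_le.mpr (hle hcm), ?_, hab, hgen⟩
  refine le_antisymm ?_ (Subgroup.zpowers_le.mpr hcm)
  rw [commutator_def, Subgroup.commutator_le]
  exact fun u _ v _ => hLcomm u v

end Group

section Fusion

variable {Ω : Type*} [Group Ω] {S E : Subgroup Ω} [Finite S] {F : FusionSystem S}

theorem false_of_chain (hS : IsPGroup p S) (hF : F.IsSaturated p) (hE : F.IsEssential p E)
    (hcard : Nat.card E = p ^ 4) {A B C : Subgroup E} (hA : Nat.card A = p) (hB : Nat.card B = p ^ 2)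
    (hC : Nat.card C = p ^ 3) (hAB : A ≤ B) (hBC : B ≤ C) (hAi : ∀ α ∈ F.autGroup E, ∀ x ∈ A, α x ∈ A)
    (hBi : ∀ α ∈ F.autGroup E, ∀ x ∈ B, α x ∈ B) (hCi : ∀ α ∈ F.autGroup E, ∀ x ∈ C, α x ∈ C) : False := by
  have hpp : p.Prime := Fact.out
  haveI : Finite E := finite_of_le hE.1.1
  refine false_of_series hS hF hE (m := 4) ![⊥, A, B, C, ⊤] rfl rfl ?_ ?_
  · intro α hα i x hx
    fin_cases i
    · simp only [Fin.zero_eta, Matrix.cons_val_zero, Subgroup.mem_bot] at hx ⊢
      rw [hx, map_one]
    · exact hAi α hα x hx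
    · exact hBi α hα x hx
    · exact hCi α hα x hx
    · trivial
  · intro i
    fin_cases i
    · show (⊥ : Subgroup E).relIndex A ∣ p
      rw [Subgroup.relIndex_bot_left, hA]
    · show A.relIndex B ∣ p
      have h := card_mul_relIndex hAB
      rw [hA, hB, pow_two] at h
      rw [Nat.eq_of_mul_eq_mul_left hpp.pos h]
    · show B.relIndex C ∣ p
      have h := card_mul_relIndex hBC
      rw [hB, hC, pow_succ p 2] at h
      rw [Nat.eq_of_mul_eq_mul_left (pow_pos hpp.pos 2) h]
    · show C.relIndex (⊤ : Subgroup E) ∣ p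
      have h := C.card_mul_index
      rw [hcard, hC, pow_succ p 3] at h
      rw [Subgroup.relIndex_top_right, Nat.eq_of_mul_eq_mul_left (pow_pos hpp.pos 3) h]

theorem center_ne_prime (hS : IsPGroup p S) (hF : F.IsSaturated p) (hE : F.IsEssential p E)
    (hcard : Nat.card E = p ^ 4) (hZ : Nat.card (Subgroup.center E) = p) : False := by
  have hpp : p.Prime := Fact.out
  haveI : Finite E := finite_of_le hE.1.1
  have hG : IsPGroup p E := IsPGroup.of_card hcard
  set Z := Subgroup.center E with hZdef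
  have hqc : Nat.card (E ⧸ Z) = p ^ 3 := by
    have h := Z.card_mul_index
    rw [hcard, hZ, show p ^ 4 = p * p ^ 3 from pow_succ' p 3] at h
    rw [← Subgroup.index_eq_card]
    exact Nat.eq_of_mul_eq_mul_left hpp.pos h
  by_cases hqab : ∀ u v : E ⧸ Z, u * v = v * u
  · -- extraspecial of order `p ^ 4`
    have hcz : ∀ u v : E, ⁅u, v⁆ ∈ Z := by
      intro u v
      rw [← QuotientGroup.eq_one_iff]
      show ((⁅u, v⁆ : E) : E ⧸ Z) = 1
      rw [← QuotientGroup.mk'_apply, map_commutatorElement, commutatorElement_eq_one_iff_mul_comm]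
      exact hqab _ _
    have hzp : ∀ z ∈ Z, z ^ p = 1 := fun z hz => by
      have h : (⟨z, hz⟩ : Z) ^ Nat.card Z = 1 := pow_card_eq_one'
      rw [hZ] at h
      exact congrArg Subtype.val h
    have hpow : ∀ x : E, x ^ p ∈ Z := by
      intro x
      refine Subgroup.mem_center_iff.mpr fun y => ?_
      have h : ∀ n : ℕ, y * x ^ n = ⁅y, x⁆ ^ n * x ^ n * y := by
        intro n
        induction n with
        | zero => simp
        | succ n ih =>
          have hc := Subgroup.mem_center_iff.mp (hcz y x)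
          have e : y * x = ⁅y, x⁆ * x * y := by rw [commutatorElement_def]; group
          calc y * x ^ (n + 1) = y * x ^ n * x := by rw [pow_succ, mul_assoc]
            _ = ⁅y, x⁆ ^ n * x ^ n * (y * x) := by rw [ih]; group
            _ = ⁅y, x⁆ ^ n * (x ^ n * ⁅y, x⁆) * x * y := by rw [e]; group
            _ = ⁅y, x⁆ ^ n * (⁅y, x⁆ * x ^ n) * x * y := by rw [hc (x ^ n)]
            _ = ⁅y, x⁆ ^ (n + 1) * x ^ (n + 1) * y := by rw [pow_succ, pow_succ]; group
      rw [h p, hzp _ (hcz y x), one_mul]
    have hle : commutator E ≤ Z := by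
      rw [commutator_def, Subgroup.commutator_le]; exact fun u _ v _ => hcz u v
    have hcomm : commutator E = Z := by
      rcases (Nat.dvd_prime hpp).mp (hZ ▸ Subgroup.card_dvd_of_le hle) with h | h
      · exfalso
        have hbot := Subgroup.eq_bot_of_card_eq _ h
        have e : Z = ⊤ := eq_top_iff.mpr fun u _ => Subgroup.mem_center_iff.mpr fun v => by
          have hm : ⁅v, u⁆ ∈ commutator E := Subgroup.commutator_mem_commutator (Subgroup.mem_top v) (Subgroup.mem_top u)
          rw [hbot, Subgroup.mem_bot] at hm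
          exact commutatorElement_eq_one_iff_mul_comm.mp hm
        rw [e, Subgroup.card_top, hcard] at hZ
        have := Nat.pow_right_injective hpp.two_le (hZ.trans (pow_one p).symm)
        omega
      · exact Subgroup.eq_of_le_of_card_ge hle (by rw [hZ, h])
    have hx : IsExtraspecial p E := by
      refine ⟨⟨hG, le_antisymm ?_ ?_, hcomm⟩, hZ⟩
      · exact CfsgLib.RankFrattini.frattini_le_of_elementary hG _
          (fun a b => hle (Subgroup.commutator_mem_commutator (Subgroup.mem_top a) (Subgroup.mem_top b))) hpow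
      · show Z ≤ _
        rw [← hcomm]
        exact CfsgLib.commutator_le_frattini_pGroup hG
    obtain ⟨n, -, hn⟩ := CfsgLib.ExtraspecialIndexP.exists_card hx
    rw [hcard] at hn
    have := Nat.pow_right_injective hpp.two_le hn
    omega
  · obtain ⟨⟨-, hcc⟩, -, -⟩ := extraspecial_cube hqc hqab
    set Z2 := (Subgroup.center (E ⧸ Z)).comap (QuotientGroup.mk' Z) with hZ2
    have hZZ2 : Z ≤ Z2 := fun z hz => by
      show QuotientGroup.mk' Z z ∈ Subgroup.center (E ⧸ Z)
      rw [QuotientGroup.mk'_apply, (QuotientGroup.eq_one_iff z).mpr hz]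
      exact Subgroup.one_mem _
    have hmem2 : ∀ x, x ∈ Z2 ↔ ∀ y : E, ⁅x, y⁆ ∈ Z := by
      intro x
      refine ⟨fun hx y => ?_, fun hx => Subgroup.mem_center_iff.mpr fun q => ?_⟩
      · rw [← QuotientGroup.eq_one_iff]
        show ((⁅x, y⁆ : E) : E ⧸ Z) = 1
        rw [← QuotientGroup.mk'_apply, map_commutatorElement, commutatorElement_eq_one_iff_mul_comm]
        exact (Subgroup.mem_center_iff.mp hx _).symm
      · obtain ⟨y, rfl⟩ := QuotientGroup.mk'_surjective Z q
        refine (commutatorElement_eq_one_iff_mul_comm.mp ?_).symm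
        rw [← map_commutatorElement, QuotientGroup.mk'_apply, QuotientGroup.eq_one_iff]
        exact hx y
    have hZ2c : Nat.card Z2 = p ^ 2 := by
      have h := Z2.card_mul_index
      have hi : Z2.index = (Subgroup.center (E ⧸ Z)).index :=
        Subgroup.index_comap_of_surjective _ (QuotientGroup.mk'_surjective Z)
      have h2 := (Subgroup.center (E ⧸ Z)).card_mul_index
      rw [hqc, hcc, show p ^ 3 = p * p ^ 2 from pow_succ' p 2] at h2
      rw [hi, Nat.eq_of_mul_eq_mul_left hpp.pos h2, hcard, show p ^ 4 = p ^ 2 * p ^ 2 by rw [← pow_add]] at h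
      exact Nat.eq_of_mul_eq_mul_right (pow_pos hpp.pos 2) h
    set C := Subgroup.centralizer (Z2 : Set E) with hC
    obtain ⟨w, hw, hwZ⟩ : ∃ w ∈ Z2, w ∉ Z := by
      by_contra hh
      push Not at hh
      have := Subgroup.card_le_of_le hh
      rw [hZ2c, hZ, pow_two] at this
      nlinarith [hpp.two_le]
    have hgen : Z2 = Z ⊔ Subgroup.zpowers w := by
      refine (Subgroup.eq_of_le_of_card_ge (sup_le hZZ2 (Subgroup.zpowers_le.mpr hw)) ?_).symm
      have h := lt_card_mul hG (show Z < Z ⊔ Subgroup.zpowers w from lt_of_le_of_ne le_sup_left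
        fun e => hwZ (e ▸ Subgroup.mem_sup_right (Subgroup.mem_zpowers w)))
      rw [hZ] at h
      rw [hZ2c, pow_two]
      exact h
    have hZ2C : Z2 ≤ C := by
      intro x hx
      refine Subgroup.mem_centralizer_iff.mpr fun y hy => ?_
      exact congrArg Subtype.val (IsPGroup.commutative_of_card_eq_prime_sq hZ2c ⟨y, hy⟩ ⟨x, hx⟩)
    let f : E →* Z :=
      { toFun := fun s => ⟨⁅w, s⁆, (hmem2 w).mp hw s⟩
        map_one' := Subtype.ext (by simp)
        map_mul' := fun s t => by
          apply Subtype.ext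
          show ⁅w, s * t⁆ = ⁅w, s⁆ * ⁅w, t⁆
          have h := Subgroup.mem_center_iff.mp ((hmem2 w).mp hw t) s
          calc ⁅w, s * t⁆ = ⁅w, s⁆ * (s * ⁅w, t⁆) * s⁻¹ := by simp only [commutatorElement_def]; group
            _ = ⁅w, s⁆ * (⁅w, t⁆ * s) * s⁻¹ := by rw [h]
            _ = _ := by group }
    have hker : C = f.ker := by
      ext s
      constructor
      · intro hs
        exact Subtype.ext (commutatorElement_eq_one_iff_mul_comm.mpr (Subgroup.mem_centralizer_iff.mp hs w hw))
      · intro hs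
        refine Subgroup.mem_centralizer_iff.mpr fun v hv => ?_
        have hcw : w * s = s * w :=
          commutatorElement_eq_one_iff_mul_comm.mp (congrArg Subtype.val (MonoidHom.mem_ker.mp hs))
        have hle2 : Z2 ≤ Subgroup.centralizer {s} := by
          rw [hgen]
          exact sup_le (fun x hx => Subgroup.mem_centralizer_singleton_iff.mpr (Subgroup.mem_center_iff.mp hx s).symm)
            (Subgroup.zpowers_le.mpr (Subgroup.mem_centralizer_singleton_iff.mpr hcw))
        exact Subgroup.mem_centralizer_singleton_iff.mp (hle2 hv)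
    have hCc : Nat.card C = p ^ 3 := by
      have h := C.card_mul_index
      rw [hcard, hker, Subgroup.index_ker, ← hker] at h
      have hd : Nat.card f.range ∣ p := hZ ▸ Subgroup.card_subgroup_dvd_card _
      rcases (Nat.dvd_prime hpp).mp hd with h1 | h1
      · exfalso
        refine hwZ (Subgroup.mem_center_iff.mpr fun g => ?_)
        have hm : f g ∈ f.range := ⟨g, rfl⟩
        rw [Subgroup.eq_bot_of_card_eq _ h1, Subgroup.mem_bot] at hm
        exact (commutatorElement_eq_one_iff_mul_comm.mp (congrArg Subtype.val hm)).symm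
      · rw [h1, pow_succ] at h
        exact Nat.eq_of_mul_eq_mul_right hpp.pos h
    have hZ2i : ∀ α : MulAut E, ∀ x ∈ Z2, α x ∈ Z2 := by
      intro α x hx
      refine (hmem2 _).mpr fun y => ?_
      have := apply_mem_center α ((hmem2 x).mp hx (α⁻¹ y))
      rwa [map_commutatorElement, MulAut.apply_inv_self] at this
    refine false_of_chain hS hF hE hcard hZ hZ2c hCc hZZ2 hZ2C (fun α _ x hx => apply_mem_center α hx)
      (fun α _ => hZ2i α) fun α _ x hx => Subgroup.mem_centralizer_iff.mpr fun y hy => ?_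
    have := congrArg α (Subgroup.mem_centralizer_iff.mp hx _ (hZ2i α⁻¹ y hy))
    simpa using this

theorem classify (hS : IsPGroup p S) (hF : F.IsSaturated p) (hE : F.IsEssential p E)
    (hcard : Nat.card E = p ^ 4) :
    Cfsg.IsElementaryAbelian p E ∨
      Nonempty (↥E ≃* Multiplicative (ZMod (p ^ 2) × ZMod p × ZMod p)) ∨
      ((p = 2 ∨ p = 3) ∧ Nonempty (↥E ≃* Multiplicative (ZMod (p ^ 2) × ZMod (p ^ 2)))) ∨
      (Odd p ∧ ∃ (Q : Type) (_ : Group Q) (_ : Finite Q), Cfsg.IsExtraspecial p Q ∧ Nat.card Q = p ^ 3 ∧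
        (∀ x : Q, x ^ p = 1) ∧ Nonempty (↥E ≃* Q × Multiplicative (ZMod p))) ∨
      (p = 2 ∧ Nonempty (↥E ≃* QuaternionGroup 2 × Multiplicative (ZMod 2))) ∨
      (¬ IsMulCommutative ↥E ∧ (∀ x ∈ E, x ^ (p ^ 2) = 1) ∧ IsCyclic ↥(Subgroup.center ↥E) ∧
        Nat.card (Subgroup.center ↥E) = p ^ 2) := by
  have hpp : p.Prime := Fact.out
  haveI : Finite E := finite_of_le hE.1.1
  haveI : NeZero p := ⟨hpp.ne_zero⟩
  have hG : IsPGroup p E := IsPGroup.of_card hcard
  by_cases hab : ∀ a b : E, a * b = b * a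
  · -- abelian
    haveI hn : ∀ K : Subgroup E, K.Normal := fun K => ⟨fun n hn g => by rwa [hab g n, mul_inv_cancel_right]⟩
    set Φ := agemo p E hab with hΦ
    have hd := Φ.index_dvd_card
    rw [hcard] at hd
    obtain ⟨i, hi4, hi⟩ := (Nat.dvd_prime_pow hpp).mp hd
    have hnot := not_dvd_index_agemo hS hF hE hab
    rw [← hΦ, hi] at hnot
    have hΦc : Nat.card Φ = p ^ (4 - i) := by
      have h := Φ.card_mul_index
      rw [hcard, hi, show p ^ 4 = p ^ (4 - i) * p ^ i by rw [← pow_add, Nat.sub_add_cancel hi4]] at h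
      exact Nat.eq_of_mul_eq_mul_right (pow_pos hpp.pos i) h
    rcases (show i = 0 ∨ i = 1 ∨ i = 2 ∨ i = 3 ∨ i = 4 by omega) with rfl | rfl | rfl | rfl | rfl
    · exact absurd (by simp) hnot
    · exact absurd (by simp) hnot
    · -- homocyclic
      obtain ⟨a, ha1, -, hmem, ⟨e⟩⟩ := homocyclic hS hF hE (hab := hab) hi
      have ha2 : a = 2 := by
        have h := Nat.card_congr e.toEquiv
        rw [hcard, Nat.card_congr Multiplicative.toAdd, Nat.card_prod, Nat.card_zmod, ← pow_add] at h
        have := Nat.pow_right_injective hpp.two_le h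
        omega
      subst ha2
      refine Or.inr (Or.inr (Or.inl ⟨?_, ⟨e⟩⟩))
      by_contra hh
      have h5 : 5 ≤ p := by
        by_contra h5
        have h4 : p = 4 := by have := hpp.two_le; omega
        rw [h4] at hpp
        exact absurd hpp (by norm_num)
      exact absurd (exponent_eq_one_of_five_le hS hF hE hi h5 hmem) (by norm_num)
    · refine Or.inr (Or.inl ?_)
      rw [show 4 - 3 = 1 from rfl, pow_one] at hΦc
      have hΦp : ∀ y ∈ Φ, y ^ p = 1 := fun y hy => by
        have h : (⟨y, hy⟩ : Φ) ^ Nat.card Φ = 1 := pow_card_eq_one'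
        rw [hΦc] at h
        exact congrArg Subtype.val h
      obtain ⟨x, hx⟩ : ∃ x : E, x ^ p ≠ 1 := by
        by_contra hh
        push Not at hh
        have : Φ = ⊥ := (Subgroup.eq_bot_iff_forall _).mpr (by rintro _ ⟨y, rfl⟩; exact hh y)
        rw [this, Subgroup.card_bot] at hΦc
        exact hpp.one_lt.ne hΦc
      let f : E →* E :=
        { toFun := fun y => y ^ p
          map_one' := one_pow p
          map_mul' := fun a b => (show Commute a b from hab a b).mul_pow p }
      have hΩc : Nat.card f.ker = p ^ 3 := by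
        have h := f.ker.card_mul_index
        have hr : Nat.card f.range = p := by
          rw [← hΦc]
          exact congrArg (fun K : Subgroup E => Nat.card K) (Subgroup.ext fun y => Iff.rfl)
        rw [hcard, Subgroup.index_ker, hr, pow_succ p 3] at h
        exact Nat.eq_of_mul_eq_mul_right hpp.pos h
      have hzΩ : Subgroup.zpowers (x ^ p) < f.ker := by
        refine lt_of_le_of_ne (Subgroup.zpowers_le.mpr (hΦp _ (pow_mem_agemo x))) fun e => ?_
        have h2 := Subgroup.card_le_of_le (Subgroup.zpowers_le.mpr (pow_mem_agemo x) : Subgroup.zpowers (x ^ p) ≤ Φ)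
        rw [e, hΩc, hΦc] at h2
        exact absurd h2 (not_le.mpr (by
          calc p = p ^ 1 := (pow_one p).symm
            _ < p ^ 3 := Nat.pow_lt_pow_right hpp.one_lt (by norm_num)))
      obtain ⟨a, ha, haz⟩ := SetLike.exists_of_lt hzΩ
      have hlt1 : Subgroup.zpowers (x ^ p) < Subgroup.zpowers (x ^ p) ⊔ Subgroup.zpowers a :=
        lt_of_le_of_ne le_sup_left fun e => haz (e ▸ Subgroup.mem_sup_right (Subgroup.mem_zpowers a))
      have hle1 : Subgroup.zpowers (x ^ p) ⊔ Subgroup.zpowers a ≤ f.ker := sup_le hzΩ.le (Subgroup.zpowers_le.mpr ha)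
      obtain ⟨b, hb, hbz⟩ : ∃ b ∈ f.ker, b ∉ Subgroup.zpowers (x ^ p) ⊔ Subgroup.zpowers a := by
        by_contra hh
        push Not at hh
        have h2 := (Subgroup.card_le_of_le hh).trans (card_sup_zpowers_le (hn _)
          (show a ^ p ∈ Subgroup.zpowers (x ^ p) by rw [show a ^ p = 1 from ha]; exact one_mem _))
        have hxo : orderOf (x ^ p) = p := orderOf_eq_prime (hΦp _ (pow_mem_agemo x)) hx
        rw [hΩc, Nat.card_zpowers, hxo] at h2
        nlinarith [hpp.two_le]
      have hx2 : x ^ p ^ 2 = 1 := by rw [pow_two, pow_mul]; exact hΦp _ (pow_mem_agemo x)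
      haveI : NeZero (p ^ 2) := ⟨pow_ne_zero 2 hpp.ne_zero⟩
      let g : Multiplicative (ZMod (p ^ 2) × ZMod p × ZMod p) →* E :=
        { toFun := fun v => powHom x hx2 (Multiplicative.ofAdd v.toAdd.1) *
            (powHom a (show a ^ p = 1 from ha) (Multiplicative.ofAdd v.toAdd.2.1) *
              powHom b (show b ^ p = 1 from hb) (Multiplicative.ofAdd v.toAdd.2.2))
          map_one' := by simp
          map_mul' := fun v w => by
            simp only [toAdd_mul, Prod.fst_add, Prod.snd_add, ofAdd_add, map_mul]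
            generalize powHom x hx2 (Multiplicative.ofAdd v.toAdd.1) = A
            generalize powHom x hx2 (Multiplicative.ofAdd w.toAdd.1) = A'
            generalize powHom a (show a ^ p = 1 from ha) (Multiplicative.ofAdd v.toAdd.2.1) = B
            generalize powHom a (show a ^ p = 1 from ha) (Multiplicative.ofAdd w.toAdd.2.1) = B'
            generalize powHom b (show b ^ p = 1 from hb) (Multiplicative.ofAdd v.toAdd.2.2) = C
            generalize powHom b (show b ^ p = 1 from hb) (Multiplicative.ofAdd w.toAdd.2.2) = C'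
            letI : CommGroup E := { (inferInstance : Group E) with mul_comm := hab }
            ac_rfl }
      have hxg : x ∈ g.range := by
        obtain ⟨i, hi⟩ := mem_range_powHom x hx2
        exact ⟨Multiplicative.ofAdd (i.toAdd, 0, 0), by simpa [g] using hi⟩
      have hag : a ∈ g.range := by
        obtain ⟨i, hi⟩ := mem_range_powHom a (show a ^ p = 1 from ha)
        exact ⟨Multiplicative.ofAdd (0, i.toAdd, 0), by simpa [g] using hi⟩
      have hbg : b ∈ g.range := by
        obtain ⟨i, hi⟩ := mem_range_powHom b (show b ^ p = 1 from hb)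
        exact ⟨Multiplicative.ofAdd (0, 0, i.toAdd), by simpa [g] using hi⟩
      have hsurj : g.range = ⊤ := by
        have hK : Subgroup.zpowers (x ^ p) ⊔ Subgroup.zpowers a ⊔ Subgroup.zpowers b ≤ g.range :=
          sup_le (sup_le (Subgroup.zpowers_le.mpr (g.range.pow_mem hxg p)) (Subgroup.zpowers_le.mpr hag))
            (Subgroup.zpowers_le.mpr hbg)
        set K := Subgroup.zpowers (x ^ p) ⊔ Subgroup.zpowers a ⊔ Subgroup.zpowers b with hKdef
        have hlt2 : Subgroup.zpowers (x ^ p) ⊔ Subgroup.zpowers a < K :=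
          lt_of_le_of_ne le_sup_left fun e => hbz (e ▸ Subgroup.mem_sup_right (Subgroup.mem_zpowers b))
        have hxK : x ∉ K := fun h => hx ((sup_le hle1 (Subgroup.zpowers_le.mpr hb) : K ≤ f.ker) h)
        have hlt3 : K < g.range := lt_of_le_of_ne hK fun e => hxK (e ▸ hxg)
        refine Subgroup.eq_top_of_le_card _ ?_
        have h1 := lt_card_mul hG hlt1
        have h2 := lt_card_mul hG hlt2
        have h3 := lt_card_mul hG hlt3
        rw [Nat.card_zpowers, orderOf_eq_prime (hΦp _ (pow_mem_agemo x)) hx] at h1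
        rw [hcard]
        calc p ^ 4 = p * p * p * p := by ring
          _ ≤ _ := (Nat.mul_le_mul_right p ((Nat.mul_le_mul_right p h1).trans h2)).trans h3
      refine ⟨(MulEquiv.ofBijective g ((Nat.bijective_iff_surjective_and_card g).mpr
        ⟨MonoidHom.range_eq_top.mp hsurj, ?_⟩)).symm⟩
      rw [Nat.card_congr Multiplicative.toAdd, Nat.card_prod, Nat.card_prod, Nat.card_zmod, Nat.card_zmod, hcard]
      ring
    · refine Or.inl ⟨⟨⟨hab⟩⟩, fun x hx => ?_⟩
      rw [show 4 - 4 = 0 from rfl, pow_zero] at hΦc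
      have h1 : (⟨x, hx⟩ : E) ^ p ∈ Φ := pow_mem_agemo _
      rw [Subgroup.eq_bot_of_card_eq _ hΦc, Subgroup.mem_bot] at h1
      exact congrArg Subtype.val h1
  -- nonabelian
  have hnc : ¬ IsMulCommutative ↥E := fun h => hab fun a b => h.is_comm.comm a b
  rcases card_center hcard hab with hZ | hZ
  · exact (center_ne_prime hS hF hE hcard hZ).elim
  obtain ⟨hpow, a, b, L, hL, hLZ, hcomm, hc1, hgen⟩ := center_sq_data hcard hZ
  set Z := Subgroup.center E with hZdef
  have hLp : ∀ c ∈ L, c ^ p = 1 := fun c hc => by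
    have h : (⟨c, hc⟩ : L) ^ Nat.card L = 1 := pow_card_eq_one'
    rw [hL] at h
    exact congrArg Subtype.val h
  have hcL : ∀ u v : E, ⁅u, v⁆ ∈ L := fun u v =>
    hcomm ▸ Subgroup.commutator_mem_commutator (Subgroup.mem_top u) (Subgroup.mem_top v)
  have hLi : ∀ α : MulAut E, ∀ x ∈ L, α x ∈ L := by
    intro α x hx
    obtain ⟨i, rfl⟩ : x ∈ Subgroup.zpowers ⁅a, b⁆ := by
      have h1 : Subgroup.zpowers ⁅a, b⁆ = L := Subgroup.eq_of_le_of_card_ge (Subgroup.zpowers_le.mpr (hcL a b)) (by
        rw [hL, Nat.card_zpowers, orderOf_eq_prime (hLp _ (hcL a b)) hc1])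
      exact h1.ge hx
    rw [map_zpow, map_commutatorElement]
    exact L.zpow_mem (hcL _ _) i
  -- `x ^ p ∈ L`
  have hpL : ∀ x : E, x ^ p ∈ L := by
    haveI : L.Normal := ⟨fun c hc g => by
      rw [Subgroup.mem_center_iff.mp (hLZ hc) g, mul_inv_cancel_right]; exact hc⟩
    let f : E →* E ⧸ L :=
      { toFun := fun x => (QuotientGroup.mk x : E ⧸ L) ^ p
        map_one' := by simp
        map_mul' := fun x y => by
          rw [QuotientGroup.mk_mul]
          refine Commute.mul_pow ?_ p
          show (QuotientGroup.mk x : E ⧸ L) * QuotientGroup.mk y = QuotientGroup.mk y * QuotientGroup.mk x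
          rw [← commutatorElement_eq_one_iff_mul_comm, ← QuotientGroup.mk'_apply, ← QuotientGroup.mk'_apply,
            ← map_commutatorElement, QuotientGroup.mk'_apply, QuotientGroup.eq_one_iff]
          exact hcL x y }
    have hfx : ∀ x, f x = 1 ↔ x ^ p ∈ L := fun x => by
      show (QuotientGroup.mk x : E ⧸ L) ^ p = 1 ↔ _
      rw [← QuotientGroup.mk_pow, QuotientGroup.eq_one_iff]
    have hr : f.range ≤ Z.map (QuotientGroup.mk' L) := by
      rintro _ ⟨x, rfl⟩
      exact ⟨x ^ p, hpow x, by simp [f]⟩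
    have hZq : Nat.card (Z.map (QuotientGroup.mk' L)) = p := by
      have h1 := Subgroup.card_mul_index (L.subgroupOf Z)
      rw [Nat.card_congr (Subgroup.subgroupOfEquivOfLe hLZ).toEquiv, hL, hZ, pow_two] at h1
      have h2 : Nat.card (Z.map (QuotientGroup.mk' L)) = ((QuotientGroup.mk' L).comp Z.subtype).ker.index := by
        rw [Subgroup.index_ker, MonoidHom.range_comp, Subgroup.range_subtype]
      rw [h2, show ((QuotientGroup.mk' L).comp Z.subtype).ker = L.subgroupOf Z by
        rw [← MonoidHom.comap_ker, QuotientGroup.ker_mk']; rfl]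
      exact Nat.eq_of_mul_eq_mul_left hpp.pos h1
    intro x
    rw [← hfx]
    by_contra hx
    have hr1 : Nat.card f.range = p := by
      rcases (Nat.dvd_prime hpp).mp (hZq ▸ Subgroup.card_dvd_of_le hr) with h1 | h1
      · exfalso
        have hm : f x ∈ f.range := ⟨x, rfl⟩
        rw [Subgroup.eq_bot_of_card_eq _ h1, Subgroup.mem_bot] at hm
        exact hx hm
      · exact h1
    have hK : Nat.card f.ker = p ^ 3 := by
      have h := f.ker.card_mul_index
      rw [hcard, Subgroup.index_ker, hr1, pow_succ p 3] at h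
      exact Nat.eq_of_mul_eq_mul_right hpp.pos h
    refine false_of_chain hS hF hE hcard hL hZ hK hLZ (fun z hz => (hfx z).mpr ?_)
      (fun α _ => hLi α) (fun α _ z hz => apply_mem_center α hz) fun α _ z hz => (hfx _).mpr ?_
    · -- `z ^ p ∈ L` for central `z`
      have hidx : (L.subgroupOf Z).index = p := by
        have h1 := Subgroup.card_mul_index (L.subgroupOf Z)
        rw [Nat.card_congr (Subgroup.subgroupOfEquivOfLe hLZ).toEquiv, hL, hZ, pow_two] at h1
        exact Nat.eq_of_mul_eq_mul_left hpp.pos h1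
      haveI : (L.subgroupOf Z).Normal := inferInstance
      have h3 := (L.subgroupOf Z).pow_index_mem ⟨z, hz⟩
      rw [hidx] at h3
      exact h3
    · rw [← map_pow]; exact hLi α _ ((hfx z).mp hz)
  by_cases hcyc : IsCyclic Z
  · refine Or.inr (Or.inr (Or.inr (Or.inr (Or.inr ⟨hnc, fun x hx => ?_, hcyc, hZ⟩))))
    have h := hLp _ (hpL ⟨x, hx⟩)
    rw [← pow_mul, ← pow_two] at h
    exact congrArg Subtype.val h
  have hZp : ∀ z ∈ Z, z ^ p = 1 := by
    intro z hz
    by_contra hzp
    refine hcyc (isCyclic_of_orderOf_eq_card (⟨z, hz⟩ : Z) ?_)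
    rw [hZ]
    refine orderOf_eq_prime_pow (p := p) (n := 1) (fun e => hzp ?_) ?_
    · rw [pow_one] at e; exact congrArg Subtype.val e
    · have h : (⟨z, hz⟩ : Z) ^ Nat.card Z = 1 := pow_card_eq_one'
      rwa [hZ] at h
  have hczw : ∀ u v w : E, ⁅u, v⁆ * w = w * ⁅u, v⁆ := fun u v w =>
    (Subgroup.mem_center_iff.mp (hLZ (hcL u v)) w).symm
  -- the complement data
  obtain ⟨z, hz, hzL⟩ : ∃ z ∈ Z, z ∉ L := by
    by_contra hh
    push Not at hh
    have := Subgroup.card_le_of_le hh
    rw [hZ, hL, pow_two] at this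
    nlinarith [hpp.two_le]
  set Q := L ⊔ Subgroup.zpowers a ⊔ Subgroup.zpowers b with hQdef
  have hcommQ : commutator E ≤ L := hcomm.le
  have hLn : L.Normal := ⟨fun c hc g => by
    rw [Subgroup.mem_center_iff.mp (hLZ hc) g, mul_inv_cancel_right]; exact hc⟩
  have hLan : (L ⊔ Subgroup.zpowers a).Normal :=
    ⟨fun x hx g => by
      rw [show g * x * g⁻¹ = ⁅g, x⁆ * x by rw [commutatorElement_def]; group]
      exact mul_mem (Subgroup.mem_sup_left (hcL g x)) hx⟩
  have hQc : Nat.card Q ≤ p ^ 3 := by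
    have h1 := card_sup_zpowers_le hLn (hpL a)
    have h2 := card_sup_zpowers_le hLan (Subgroup.mem_sup_left (T := Subgroup.zpowers a) (hpL b))
    rw [hL] at h1
    calc Nat.card Q ≤ _ := h2
      _ ≤ p * p * p := Nat.mul_le_mul_right p h1
      _ = p ^ 3 := by ring
  have hQn : Q.Normal := ⟨fun x hx g => by
    rw [show g * x * g⁻¹ = ⁅g, x⁆ * x by rw [commutatorElement_def]; group]
    exact mul_mem (Subgroup.mem_sup_left (Subgroup.mem_sup_left (hcL g x))) hx⟩
  have hZgen : Z ≤ L ⊔ Subgroup.zpowers z := by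
    have h := lt_card_mul hG (show L < L ⊔ Subgroup.zpowers z from lt_of_le_of_ne le_sup_left
      fun e => hzL (e ▸ Subgroup.mem_sup_right (Subgroup.mem_zpowers z)))
    refine le_of_eq (Subgroup.eq_of_le_of_card_ge (sup_le hLZ (Subgroup.zpowers_le.mpr hz)) ?_).symm
    rw [hL] at h
    rw [hZ, pow_two]
    exact h
  have hQtop : Q ⊔ Subgroup.zpowers z = ⊤ := by
    rw [eq_top_iff, ← hgen]
    refine sup_le (sup_le (hZgen.trans (sup_le ?_ le_sup_right)) ?_) ?_
    · exact le_trans (le_trans le_sup_left le_sup_left) le_sup_left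
    · exact le_trans (le_trans le_sup_right le_sup_left) le_sup_left
    · exact le_trans le_sup_right le_sup_left
  have hQc' : Nat.card Q = p ^ 3 := by
    refine le_antisymm hQc ?_
    have h := card_sup_zpowers_le hQn (show z ^ p ∈ Q by rw [hZp z hz]; exact one_mem _)
    rw [hQtop, Subgroup.card_top, hcard, pow_succ p 3] at h
    exact Nat.le_of_mul_le_mul_right h hpp.pos
  have hzQ : z ∉ Q := fun h => by
    have e : Q = ⊤ := (sup_eq_left.mpr (Subgroup.zpowers_le.mpr h)).symm.trans hQtop
    rw [e, Subgroup.card_top, hcard] at hQc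
    have := (Nat.pow_le_pow_iff_right hpp.one_lt).mp hQc
    omega
  have haQ : a ∈ Q := Subgroup.mem_sup_left (Subgroup.mem_sup_right (Subgroup.mem_zpowers a))
  have hbQ : b ∈ Q := Subgroup.mem_sup_right (Subgroup.mem_zpowers b)
  have hQnab : ¬ ∀ u v : Q, u * v = v * u := fun h => hc1
    (commutatorElement_eq_one_iff_mul_comm.mpr (congrArg Subtype.val (h ⟨a, haQ⟩ ⟨b, hbQ⟩)))
  -- `E ≃ Q × C_p`
  let mu : Q × Multiplicative (ZMod p) →* E :=
    { toFun := fun v => (v.1 : E) * powHom z (hZp z hz) v.2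
      map_one' := by simp
      map_mul' := fun v w => by
        simp only [Prod.fst_mul, Prod.snd_mul, Subgroup.coe_mul, map_mul]
        have hc : (w.1 : E) * powHom z (hZp z hz) v.2 = powHom z (hZp z hz) v.2 * (w.1 : E) :=
          Subgroup.mem_center_iff.mp (Z.pow_mem hz _) _
        calc (v.1 : E) * w.1 * (powHom z (hZp z hz) v.2 * powHom z (hZp z hz) w.2)
            = (v.1 : E) * ((w.1 : E) * powHom z (hZp z hz) v.2) * powHom z (hZp z hz) w.2 := by group
          _ = _ := by rw [hc]; group }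
  have hmu : Function.Surjective mu := by
    rw [← MonoidHom.range_eq_top, eq_top_iff, ← hQtop]
    refine sup_le (fun q hq => ⟨(⟨q, hq⟩, 1), by simp [mu]⟩) (Subgroup.zpowers_le.mpr ?_)
    obtain ⟨i, hi⟩ := mem_range_powHom z (hZp z hz)
    exact ⟨(1, i), by simpa [mu] using hi⟩
  have hmub : Function.Bijective mu := (Nat.bijective_iff_surjective_and_card mu).mpr ⟨hmu, by
    rw [Nat.card_prod, Nat.card_congr Multiplicative.toAdd, Nat.card_zmod, hQc', hcard]; ring⟩
  let iso : E ≃* Q × Multiplicative (ZMod p) := (MulEquiv.ofBijective mu hmub).symm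
  have hxc : IsExtraspecial p Q := (extraspecial_cube hQc' hQnab).1
  by_cases hp2 : p = 2
  · -- `p = 2`
    subst hp2
    have hsqmul : ∀ u v : E, (u * v) ^ 2 = u ^ 2 * v ^ 2 * ⁅v, u⁆ := by
      intro u v
      calc (u * v) ^ 2 = u * (⁅v, u⁆ * (u * v)) * v := by rw [pow_two, commutatorElement_def]; group
        _ = u * ((u * v) * ⁅v, u⁆) * v := by rw [hczw v u]
        _ = u * u * v * (⁅v, u⁆ * v) := by group
        _ = u * u * v * (v * ⁅v, u⁆) := by rw [hczw v u]
        _ = _ := by rw [pow_two, pow_two]; group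
    have hsqZ : ∀ u : E, ∀ w ∈ Z, (u * w) ^ 2 = u ^ 2 := by
      intro u w hw
      rw [(show Commute u w from Subgroup.mem_center_iff.mp hw u).mul_pow, hZp w hw, mul_one]
    by_cases hall : ∀ x : E, x ∉ Z → x ^ 2 ≠ 1
    · refine Or.inr (Or.inr (Or.inr (Or.inr (Or.inl ⟨rfl, ?_⟩))))
      obtain ⟨z', h'⟩ := CfsgLib.ExtraTwo.ofExtraspecial hxc
      have hno : ∀ x : Q, x * x = 1 → x ∈ Subgroup.center Q := by
        intro x hx
        have hxZ : (x : E) ∈ Z := by
          by_contra h
          refine hall _ h ?_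
          rw [pow_two]
          exact congrArg Subtype.val hx
        exact Subgroup.mem_center_iff.mpr fun y => Subtype.ext (Subgroup.mem_center_iff.mp hxZ y)
      rcases (CfsgLib.ExtraTwo.small_cases h' hno).2 with ⟨h2, -⟩ | ⟨-, ⟨e⟩⟩
      · rw [hQc'] at h2; norm_num at h2
      · exact ⟨iso.trans (e.prodCongr (MulEquiv.refl _))⟩
    exfalso
    push Not at hall
    obtain ⟨u, hu, hu2⟩ := hall
    -- elements outside `Z ⟨u⟩`
    set U := Z ⊔ Subgroup.zpowers u with hU
    have hUc : Nat.card U = 2 ^ 3 := by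
      refine le_antisymm ?_ ?_
      · have h := card_sup_zpowers_le (p := 2) (K := Z) inferInstance (hpow u)
        rw [hZ] at h
        exact h
      · have h := lt_card_mul hG (show Z < U from lt_of_le_of_ne le_sup_left
          fun e => hu (e ▸ Subgroup.mem_sup_right (Subgroup.mem_zpowers u)))
        rw [hZ] at h
        exact h
    obtain ⟨v, hv⟩ : ∃ v, v ∉ U := by
      by_contra hh
      push Not at hh
      have : U = ⊤ := eq_top_iff.mpr fun x _ => hh x
      rw [this, Subgroup.card_top, hcard] at hUc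
      norm_num at hUc
    have huv : ⁅v, u⁆ ≠ 1 := by
      intro e
      have hcv : v * u = u * v := commutatorElement_eq_one_iff_mul_comm.mp e
      have hcU : U ≤ Subgroup.centralizer {u} :=
        sup_le (fun t ht => Subgroup.mem_centralizer_singleton_iff.mpr (Subgroup.mem_center_iff.mp ht u).symm)
          (Subgroup.zpowers_le.mpr (Subgroup.mem_centralizer_singleton_iff.mpr rfl))
      have h1 : U < Subgroup.centralizer {u} := lt_of_le_of_ne hcU fun e' =>
        hv (e'.ge (Subgroup.mem_centralizer_singleton_iff.mpr hcv))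
      have h2 := lt_card_mul hG h1
      rw [hUc] at h2
      refine hu (Subgroup.mem_center_iff.mpr fun g => ?_)
      have h3 : Subgroup.centralizer {u} = ⊤ := Subgroup.eq_top_of_le_card _ (by rw [hcard]; exact h2)
      exact Subgroup.mem_centralizer_singleton_iff.mp (h3.ge (Subgroup.mem_top g))
    set c := ⁅v, u⁆ with hc
    have hLgen : ∀ t ∈ L, t = 1 ∨ t = c := by
      intro t ht
      by_contra hh
      push Not at hh
      have h1 : Subgroup.zpowers c = L := Subgroup.eq_of_le_of_card_ge (Subgroup.zpowers_le.mpr (hcL v u)) (by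
        rw [hL, Nat.card_zpowers, orderOf_eq_prime (hLp _ (hcL v u)) huv])
      obtain ⟨i, rfl⟩ := h1.ge ht
      rcases Int.emod_two_eq_zero_or_one i with e | e
      · exact hh.1 (by
          show c ^ i = 1
          rw [← zpow_mod_orderOf, orderOf_eq_prime (hLp _ (hcL v u)) huv]; simp [e])
      · exact hh.2 (by
          show c ^ i = c
          rw [← zpow_mod_orderOf, orderOf_eq_prime (hLp _ (hcL v u)) huv]; simp [e])
    obtain ⟨w, hw, hwu, hwu'⟩ : ∃ w, w ∉ U ∧ w ^ 2 = c ∧ (u * w) ^ 2 = 1 := by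
      have hcw : ∀ t, t ∉ U → ⁅t, u⁆ = c := by
        intro t ht
        refine (hLgen _ (hcL t u)).resolve_left fun e => ht ?_
        have hcv : t * u = u * t := commutatorElement_eq_one_iff_mul_comm.mp e
        have hcU : U ≤ Subgroup.centralizer {u} :=
          sup_le (fun t ht => Subgroup.mem_centralizer_singleton_iff.mpr (Subgroup.mem_center_iff.mp ht u).symm)
            (Subgroup.zpowers_le.mpr (Subgroup.mem_centralizer_singleton_iff.mpr rfl))
        by_contra htU
        have h1 : U < Subgroup.centralizer {u} := lt_of_le_of_ne hcU fun e' =>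
          htU (e'.ge (Subgroup.mem_centralizer_singleton_iff.mpr hcv))
        have h2 := lt_card_mul hG h1
        rw [hUc] at h2
        refine hu (Subgroup.mem_center_iff.mpr fun g => ?_)
        have h3 : Subgroup.centralizer {u} = ⊤ := Subgroup.eq_top_of_le_card _ (by rw [hcard]; exact h2)
        exact Subgroup.mem_centralizer_singleton_iff.mp (h3.ge (Subgroup.mem_top g))
      have huU : u ∈ U := Subgroup.mem_sup_right (Subgroup.mem_zpowers u)
      have hcc : c * c = 1 := by rw [← pow_two]; exact hLp _ (hcL v u)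
      rcases hLgen _ (hpL v) with e | e
      · refine ⟨u * v, fun h => hv ((U.mul_mem_cancel_left huU).mp h), ?_, ?_⟩
        · rw [hsqmul, hu2, e, one_mul, one_mul]
        · rw [← mul_assoc, ← pow_two, hu2, one_mul]; exact e
      · exact ⟨v, hv, e, by rw [hsqmul, hu2, one_mul, e]; exact hcc⟩
    -- every noncentral element with nontrivial square lies in `Z ⟨w⟩`
    set W := Z ⊔ Subgroup.zpowers w with hW
    have hWc : Nat.card W = 2 ^ 3 := by
      refine le_antisymm ?_ ?_
      · have h := card_sup_zpowers_le (p := 2) (K := Z) inferInstance (hpow w)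
        rw [hZ] at h
        exact h
      · have h := lt_card_mul hG (show Z < W from lt_of_le_of_ne le_sup_left
          fun e => hw (Subgroup.mem_sup_left (e ▸ Subgroup.mem_sup_right (Subgroup.mem_zpowers w) : w ∈ Z)))
        rw [hZ] at h
        exact h
    have hchar : ∀ x, x ∈ W ↔ x ∈ Z ∨ x ^ 2 ≠ 1 := by
      have hfwd : ∀ x ∈ W, x ∈ Z ∨ x ^ 2 ≠ 1 := by
        intro x hx
        by_cases hxZ : x ∈ Z
        · exact Or.inl hxZ
        right
        obtain ⟨t, ht, _, ⟨i, rfl⟩, rfl⟩ := Subgroup.mem_sup_of_normal_left.mp hx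
        rw [← Subgroup.mem_center_iff.mp ht (w ^ i), hsqZ _ _ ht, ← zpow_natCast, ← zpow_mul, mul_comm, zpow_mul,
          zpow_natCast, hwu]
        rcases Int.emod_two_eq_zero_or_one i with e | e
        · exfalso
          refine hxZ (Z.mul_mem ht ?_)
          obtain ⟨k, rfl⟩ : (2 : ℤ) ∣ i := Int.dvd_of_emod_eq_zero e
          show w ^ (2 * k) ∈ Z
          rw [zpow_mul, show (2 : ℤ) = ((2 : ℕ) : ℤ) from rfl, zpow_natCast]
          exact Z.zpow_mem (hpow w) k
        · intro h
          rw [← zpow_mod_orderOf, orderOf_eq_prime (hLp _ (hcL v u)) huv] at h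
          simp [e] at h
          exact huv h
      intro x
      refine ⟨hfwd x, fun hx => ?_⟩
      by_contra hxW
      have hxZ : x ∉ Z := fun h => hxW (Subgroup.mem_sup_left h)
      have hx2 := hx.resolve_left hxZ
      -- `x ∈ U ∪ (u w) Z`
      have hUW : ∀ y ∈ U, y ^ 2 = 1 := by
        intro y hy
        obtain ⟨t, ht, _, ⟨i, rfl⟩, rfl⟩ := Subgroup.mem_sup_of_normal_left.mp hy
        rw [← Subgroup.mem_center_iff.mp ht (u ^ i), hsqZ _ _ ht, ← zpow_natCast, ← zpow_mul, mul_comm, zpow_mul,
          zpow_natCast, hu2, one_zpow]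
      have hxU : x ∉ U := fun h => hx2 (hUW x h)
      set V := Z ⊔ Subgroup.zpowers (u * w) with hV
      haveI hWn : W.Normal := Subgroup.normal_of_index_eq_two (by
        have h := W.card_mul_index; rw [hWc, hcard] at h; omega)
      haveI hUn : U.Normal := Subgroup.normal_of_index_eq_two (by
        have h := U.card_mul_index; rw [hUc, hcard] at h; omega)
      have hUi : U.index = 2 := by have h := U.card_mul_index; rw [hUc, hcard] at h; omega
      have hWi : W.index = 2 := by have h := W.card_mul_index; rw [hWc, hcard] at h; omega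
      have huW : u ∉ W := fun h => by
        rcases hfwd u h with h' | h'
        · exact hu h'
        · exact h' hu2
      -- `y = w⁻¹ u⁻¹ x` is in both `U` and `W`
      have hy1 : (u * w)⁻¹ * x ∈ U := by
        rw [Subgroup.mul_mem_iff_of_index_two hUi]
        exact iff_of_false (fun h => hw ((U.mul_mem_cancel_left (Subgroup.mem_sup_right (Subgroup.mem_zpowers u))).mp
          (U.inv_mem_iff.mp h))) hxU
      have hy2 : (u * w)⁻¹ * x ∈ W := by
        rw [Subgroup.mul_mem_iff_of_index_two hWi]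
        exact iff_of_false (fun h => huW ((W.mul_mem_cancel_right (Subgroup.mem_sup_right (Subgroup.mem_zpowers w))).mp
          (W.inv_mem_iff.mp h))) hxW
      rcases hfwd _ hy2 with h | h
      · refine hx2 ?_
        rw [← mul_inv_cancel_left (u * w) x, hsqZ _ _ h, hwu']
      · exact h (hUW _ hy1)
    refine false_of_chain hS hF hE hcard hL hZ hWc hLZ le_sup_left (fun α _ => hLi α)
      (fun α _ t ht => apply_mem_center α ht) fun α _ t ht => ?_
    rcases (hchar t).mp ht with h | h
    · exact Subgroup.mem_sup_left (apply_mem_center α h)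
    · refine (hchar _).mpr (Or.inr fun e => h ?_)
      rw [← map_pow] at e
      exact α.injective (e.trans (map_one α).symm)
  · -- odd `p`
    have hexp : ∀ x : E, x ^ p = 1 := by
      let g : E →* E :=
        { toFun := fun y => y ^ p
          map_one' := one_pow p
          map_mul' := fun u v => CfsgLib.CyclicMax.mul_pow_of_central_commutators hp2 (hcomm.le.trans hLZ)
            (fun c hc => hLp c (hcomm ▸ hc)) u v }
      intro x
      by_contra hx
      have hr : g.range ≤ L := by rintro _ ⟨y, rfl⟩; exact hpL y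
      have hr1 : Nat.card g.range = p := by
        rcases (Nat.dvd_prime hpp).mp (hL ▸ Subgroup.card_dvd_of_le hr) with h1 | h1
        · exfalso
          have hm : g x ∈ g.range := ⟨x, rfl⟩
          rw [Subgroup.eq_bot_of_card_eq _ h1, Subgroup.mem_bot] at hm
          exact hx hm
        · exact h1
      have hK : Nat.card g.ker = p ^ 3 := by
        have h := g.ker.card_mul_index
        rw [hcard, Subgroup.index_ker, hr1, pow_succ p 3] at h
        exact Nat.eq_of_mul_eq_mul_right hpp.pos h
      exact false_of_chain hS hF hE hcard hL hZ hK hLZ (fun t ht => hZp t ht) (fun α _ => hLi α)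
        (fun α _ t ht => apply_mem_center α ht) fun α _ t ht => by
          show (α t) ^ p = 1
          rw [← map_pow, show t ^ p = 1 from ht, map_one]
    refine Or.inr (Or.inr (Or.inr (Or.inl ⟨hpp.odd_of_ne_two hp2, ?_⟩)))
    let eq : Q ≃ Carrier (Nat.card Q) := Finite.equivFin Q
    letI : Group (Carrier (Nat.card Q)) := eq.symm.group
    haveI : Finite (Carrier (Nat.card Q)) := Finite.of_equiv _ eq
    let e : Carrier (Nat.card Q) ≃* Q := eq.symm.mulEquiv
    have hcard' : Nat.card (Carrier (Nat.card Q)) = p ^ 3 := by rw [← Nat.card_congr eq, hQc']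
    refine ⟨Carrier (Nat.card Q), inferInstance, inferInstance, ?_, hcard', fun x => ?_,
      ⟨iso.trans (e.symm.prodCongr (MulEquiv.refl _))⟩⟩
    · refine (extraspecial_cube hcard' fun h => hQnab fun u v => ?_).1
      have := congrArg e (h (e.symm u) (e.symm v))
      simpa using this
    · apply e.injective
      rw [map_pow, map_one]
      exact Subtype.ext (hexp _)

end Fusion

end Cfsg.EssentialSmall.Quad
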