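import Cfsg.Agent.Lib.Fusion.EssentialSmall.Basic
import Cfsg.Agent.Lib.RankFrattini
import Mathlib.Data.ZMod.QuotientGroup
import Mathlib.GroupTheory.QuotientGroup.Basic
import Mathlib.Tactic.Ring

/-!
Abelian essential subgroups generated by two elements are homocyclic, and elementary for `p ≥ 5`.
-/

set_option autoImplicit false
set_option linter.unusedSectionVars false

namespace Cfsg.EssentialSmall

open Cfsg FusionSystem

/-- A `p`-group of automorphisms fixes a nontrivial element of a group of order divisible by `p`. -/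
theorem exists_fixed {G : Type*} [Group G] [Finite G] {p : ℕ} [Fact p.Prime] {R : Subgroup (MulAut G)}
    (hR : IsPGroup p R) (hd : p ∣ Nat.card G) : ∃ x : G, x ≠ 1 ∧ ∀ r ∈ R, r x = x := by
  have hmod := hR.card_modEq_card_fixedPoints G
  set F := MulAction.fixedPoints R G
  have h1 : (1 : G) ∈ F := fun r => map_one (r : MulAut G)
  have hdvd : p ∣ Nat.card F :=
    (Nat.modEq_zero_iff_dvd).mp (hmod.symm.trans ((Nat.modEq_zero_iff_dvd).mpr hd))
  haveI : Nonempty F := ⟨⟨1, h1⟩⟩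
  have hlt : 1 < Nat.card F :=
    (Fact.out : p.Prime).one_lt.trans_le (Nat.le_of_dvd Nat.card_pos hdvd)
  haveI : Nontrivial F := Finite.one_lt_card_iff_nontrivial.mp hlt
  obtain ⟨⟨x, hx⟩, hne⟩ := exists_ne (⟨1, h1⟩ : F)
  exact ⟨x, fun e => hne (Subtype.ext e), fun r hr => hx ⟨r, hr⟩⟩

variable {Ω : Type*} [Group Ω] {S E : Subgroup Ω} [Finite S] {p : ℕ} [Fact p.Prime] {F : FusionSystem S}
  {hab : ∀ a b : E, a * b = b * a}

theorem index_agemo (hS : IsPGroup p S) (hF : F.IsSaturated p) (hE : F.IsEssential p E)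
    (hab : ∀ a b : E, a * b = b * a) (hle : (agemo p E hab).index ≤ p ^ 2) :
    (agemo p E hab).index = p ^ 2 := by
  haveI : Finite E := finite_of_le hE.1.1
  obtain ⟨N, hN⟩ := (hS.to_le hE.1.1).exists_card_eq
  have hd := (agemo p E hab).index_dvd_card
  rw [hN] at hd
  obtain ⟨i, -, hi⟩ := (Nat.dvd_prime_pow (Fact.out : p.Prime)).mp hd
  have hnot := not_dvd_index_agemo hS hF hE hab
  rw [hi] at hle hnot ⊢
  have hi2 : i ≤ 2 := (Nat.pow_le_pow_iff_right (Fact.out : p.Prime).one_lt).mp hle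
  rcases (show i = 0 ∨ i = 1 ∨ i = 2 by omega) with rfl | rfl | rfl
  · exact absurd (by simp) hnot
  · exact absurd (by simp) hnot
  · rfl

theorem index_agemo_of_frattini (hS : IsPGroup p S) (hF : F.IsSaturated p) (hE : F.IsEssential p E)
    (hab : ∀ a b : E, a * b = b * a) (hrk : (frattini E).index ≤ p ^ 2) :
    (agemo p E hab).index = p ^ 2 := by
  haveI : Finite E := finite_of_le hE.1.1
  refine index_agemo hS hF hE hab (le_trans ?_ hrk)
  refine Nat.le_of_dvd (Nat.pos_of_ne_zero Subgroup.index_ne_zero_of_finite) (Subgroup.index_dvd_of_le ?_)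
  refine CfsgLib.RankFrattini.frattini_le_of_elementary (hS.to_le hE.1.1) _ (fun a b => ?_) fun a => pow_mem_agemo a
  rw [commutatorElement_eq_one_iff_mul_comm.mpr (hab a b)]
  exact Subgroup.one_mem _

/-- Adjoining an element to the powers, of index `p ^ 2`, gives index `p`. -/
theorem index_sup_zpowers [Finite E] (h2 : (agemo p E hab).index = p ^ 2) {x : E}
    (hx : x ∉ agemo p E hab) : (agemo p E hab ⊔ Subgroup.zpowers x).index = p := by
  have hpp : p.Prime := Fact.out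
  set Φ := agemo p E hab with hΦ
  haveI : Φ.Normal := ⟨fun n hn g => by rwa [hab g n, mul_inv_cancel_right]⟩
  have hlt : Φ < Φ ⊔ Subgroup.zpowers x :=
    lt_of_le_of_ne le_sup_left fun e => hx (e ▸ Subgroup.mem_sup_right (Subgroup.mem_zpowers x))
  have hd := h2 ▸ Subgroup.index_dvd_of_le hlt.le
  obtain ⟨i, hi, e⟩ := (Nat.dvd_prime_pow hpp).mp hd
  have h3 := Subgroup.index_strictAnti hlt
  rw [h2, e] at h3
  have hi2 := (Nat.pow_lt_pow_iff_right hpp.one_lt).mp h3
  rw [e]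
  rcases (show i = 0 ∨ i = 1 by omega) with rfl | rfl
  · exfalso
    have htop := Subgroup.index_eq_one.mp (e.trans (pow_zero p))
    let q : E ⧸ Φ := QuotientGroup.mk x
    have hq : q ^ p = 1 := by
      rw [show q ^ p = QuotientGroup.mk (x ^ p) from rfl, QuotientGroup.eq_one_iff]
      exact pow_mem_agemo x
    have hgen : ∀ w : E ⧸ Φ, w ∈ Subgroup.zpowers q := by
      intro w
      obtain ⟨w, rfl⟩ := QuotientGroup.mk_surjective w
      obtain ⟨a, ha, _, ⟨k, rfl⟩, rfl⟩ :=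
        Subgroup.mem_sup_of_normal_left.mp (htop ▸ Subgroup.mem_top w : w ∈ Φ ⊔ Subgroup.zpowers x)
      refine ⟨k, ?_⟩
      show q ^ k = _
      rw [QuotientGroup.mk_mul, (QuotientGroup.eq_one_iff a).mpr ha, one_mul, QuotientGroup.mk_zpow]
    have hcard := orderOf_eq_card_of_forall_mem_zpowers hgen
    rw [← Subgroup.index_eq_card, h2] at hcard
    have hle := Nat.le_of_dvd hpp.pos (orderOf_dvd_of_pow_eq_one hq)
    rw [hcard] at hle
    nlinarith [hpp.two_le]
  · exact pow_one p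

theorem exists_exponent [Finite E] (hS : IsPGroup p S) (hES : E ≤ S) (hne : ∃ x : E, x ≠ 1) :
    ∃ a, 1 ≤ a ∧ (∀ x : E, x ^ p ^ a = 1) ∧ ∃ x : E, x ^ p ^ (a - 1) ≠ 1 := by
  classical
  obtain ⟨N, hN⟩ := (hS.to_le hES).exists_card_eq
  have hex : ∃ a, ∀ x : E, x ^ p ^ a = 1 := ⟨N, fun x => by rw [← hN, pow_card_eq_one']⟩
  have h1 : 1 ≤ Nat.find hex := by
    rw [Nat.one_le_iff_ne_zero]
    intro e
    obtain ⟨x, hx⟩ := hne
    have := Nat.find_spec hex x
    rw [e, pow_zero, pow_one] at this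
    exact hx this
  refine ⟨Nat.find hex, h1, Nat.find_spec hex, ?_⟩
  by_contra hh
  push Not at hh
  exact Nat.find_min hex (show Nat.find hex - 1 < Nat.find hex by omega) hh

/-- In a rank two abelian essential subgroup an element of non-maximal order is a `p`-th power. -/
theorem mem_agemo_of_pow (hS : IsPGroup p S) (hF : F.IsSaturated p) (hE : F.IsEssential p E)
    (h2 : (agemo p E hab).index = p ^ 2) {a : ℕ} (ha1 : 1 ≤ a) (ha : ∀ x : E, x ^ p ^ a = 1)
    (hmax : ∃ x : E, x ^ p ^ (a - 1) ≠ 1) {z : E} (hz : z ^ p ^ (a - 1) = 1) : z ∈ agemo p E hab := by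
  haveI : Finite E := finite_of_le hE.1.1
  have hpp : p.Prime := Fact.out
  let M : Subgroup E :=
    { carrier := {x | x ^ p ^ (a - 1) = 1}
      one_mem' := one_pow _
      mul_mem' := fun {u v} hu hv => by
        show (u * v) ^ p ^ (a - 1) = 1
        rw [(show Commute u v from hab u v).mul_pow, show u ^ p ^ (a - 1) = 1 from hu,
          show v ^ p ^ (a - 1) = 1 from hv, mul_one]
      inv_mem' := fun {u} hu => by
        show u⁻¹ ^ p ^ (a - 1) = 1
        rw [inv_pow, show u ^ p ^ (a - 1) = 1 from hu, inv_one] }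
  have hle : agemo p E hab ≤ M := by
    rintro _ ⟨y, rfl⟩
    show (y ^ p) ^ p ^ (a - 1) = 1
    rw [← pow_mul, ← pow_succ', Nat.sub_add_cancel ha1, ha]
  by_contra hzn
  refine false_of_mid hS hF hE hab hle (fun α _ x hx => ?_) ?_ ?_
  · show (α x) ^ p ^ (a - 1) = 1
    rw [← map_pow, show x ^ p ^ (a - 1) = 1 from hx, map_one]
  all_goals
    have hlt : agemo p E hab < M := lt_of_le_of_ne hle fun e => hzn (e ▸ (hz : z ∈ M))
    have hMi : M.index = p := by
      obtain ⟨i, hi, e⟩ := (Nat.dvd_prime_pow hpp).mp (h2 ▸ Subgroup.index_dvd_of_le hle)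
      have h3 := Subgroup.index_strictAnti hlt
      rw [h2, e] at h3
      have hi2 := (Nat.pow_lt_pow_iff_right hpp.one_lt).mp h3
      rw [e]
      rcases (show i = 0 ∨ i = 1 by omega) with rfl | rfl
      · obtain ⟨x, hx⟩ := hmax
        exact absurd ((Subgroup.index_eq_one.mp (e.trans (pow_zero p))) ▸ Subgroup.mem_top x : x ∈ M) hx
      · exact pow_one p
  · have := Subgroup.relIndex_mul_index hle
    rw [hMi, h2, pow_two] at this
    exact dvd_of_eq (Nat.eq_of_mul_eq_mul_right hpp.pos this)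
  · rw [hMi]

theorem exists_gens (hS : IsPGroup p S) (hE : F.IsEssential p E) (h2 : (agemo p E hab).index = p ^ 2) :
    ∃ x y : E, x ∉ agemo p E hab ∧ y ∉ agemo p E hab ⊔ Subgroup.zpowers x ∧
      ∀ e : E, ∃ i j : ℤ, e = x ^ i * y ^ j := by
  haveI : Finite E := finite_of_le hE.1.1
  have hpp : p.Prime := Fact.out
  set Φ := agemo p E hab with hΦ
  haveI hn : ∀ H : Subgroup E, H.Normal := fun H => ⟨fun n hn g => by rwa [hab g n, mul_inv_cancel_right]⟩
  obtain ⟨x, hx⟩ : ∃ x, x ∉ Φ := by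
    by_contra hh
    push Not at hh
    rw [Subgroup.index_eq_one.mpr (eq_top_iff.mpr fun w _ => hh w)] at h2
    exact absurd h2 (Nat.one_lt_pow two_ne_zero hpp.one_lt).ne
  have hM : (Φ ⊔ Subgroup.zpowers x).index = p := index_sup_zpowers h2 hx
  obtain ⟨y, hy⟩ : ∃ y, y ∉ Φ ⊔ Subgroup.zpowers x := by
    by_contra hh
    push Not at hh
    rw [Subgroup.index_eq_one.mpr (eq_top_iff.mpr fun w _ => hh w)] at hM
    exact hpp.one_lt.ne hM
  refine ⟨x, y, hx, hy, ?_⟩
  have htop : Φ ⊔ Subgroup.zpowers x ⊔ Subgroup.zpowers y = ⊤ := by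
    rw [← Subgroup.index_eq_one]
    refine ((Nat.dvd_prime hpp).mp (hM ▸ Subgroup.index_dvd_of_le le_sup_left)).resolve_right fun e => ?_
    have hlt : Φ ⊔ Subgroup.zpowers x < Φ ⊔ Subgroup.zpowers x ⊔ Subgroup.zpowers y :=
      lt_of_le_of_ne le_sup_left fun e' => hy (e' ▸ Subgroup.mem_sup_right (Subgroup.mem_zpowers y))
    have := Subgroup.index_strictAnti hlt
    omega
  have hstep : ∀ e : E, ∃ (i j : ℤ) (w : E), e = x ^ i * y ^ j * w ^ p := by
    intro e
    obtain ⟨_, h1, _, ⟨j, rfl⟩, e2⟩ := Subgroup.mem_sup_of_normal_left.mp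
      (htop ▸ Subgroup.mem_top e : e ∈ Φ ⊔ Subgroup.zpowers x ⊔ Subgroup.zpowers y)
    obtain ⟨_, ⟨w, rfl⟩, _, ⟨i, rfl⟩, e3⟩ := Subgroup.mem_sup_of_normal_left.mp h1
    refine ⟨i, j, w, ?_⟩
    rw [← e2, ← e3]
    show w ^ p * x ^ i * y ^ j = _
    rw [hab (w ^ p) (x ^ i), mul_assoc, hab (w ^ p) (y ^ j), ← mul_assoc]
  have hiter : ∀ (n : ℕ) (e : E), ∃ (i j : ℤ) (w : E), e = x ^ i * y ^ j * w ^ p ^ n := by
    intro n
    induction n with
    | zero => exact fun e => ⟨0, 0, e, by simp⟩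
    | succ n ih =>
      intro e
      obtain ⟨i, j, w, rfl⟩ := ih e
      obtain ⟨i', j', w', rfl⟩ := hstep w
      refine ⟨i + i' * (p : ℤ) ^ n, j + j' * (p : ℤ) ^ n, w', ?_⟩
      rw [(show Commute (x ^ i' * y ^ j') (w' ^ p) from hab _ _).mul_pow,
        (show Commute (x ^ i') (y ^ j') from hab _ _).mul_pow, ← pow_mul, ← pow_succ', zpow_add, zpow_add,
        show (x ^ i') ^ p ^ n = x ^ (i' * (p : ℤ) ^ n) by rw [← zpow_natCast (x ^ i'), ← zpow_mul]; push_cast; rfl,
        show (y ^ j') ^ p ^ n = y ^ (j' * (p : ℤ) ^ n) by rw [← zpow_natCast (y ^ j'), ← zpow_mul]; push_cast; rfl]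
      set A := x ^ i
      set B := x ^ (i' * (p : ℤ) ^ n)
      set C := y ^ j
      set D := y ^ (j' * (p : ℤ) ^ n)
      set W := w' ^ p ^ (n + 1)
      calc A * C * (B * D * W) = A * (C * B) * D * W := by group
        _ = A * B * (C * D) * W := by rw [hab C B]; group
  intro e
  obtain ⟨N, hN⟩ := (hS.to_le hE.1.1).exists_card_eq
  obtain ⟨i, j, w, rfl⟩ := hiter N e
  exact ⟨i, j, by rw [← hN, pow_card_eq_one', mul_one]⟩

/-- A rank two abelian essential subgroup is homocyclic. -/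
theorem homocyclic (hS : IsPGroup p S) (hF : F.IsSaturated p) (hE : F.IsEssential p E)
    (h2 : (agemo p E hab).index = p ^ 2) :
    ∃ a, 1 ≤ a ∧ (∀ x : E, x ^ p ^ a = 1) ∧ (∀ z : E, z ^ p ^ (a - 1) = 1 → z ∈ agemo p E hab) ∧
      Nonempty (E ≃* Multiplicative (ZMod (p ^ a) × ZMod (p ^ a))) := by
  haveI : Finite E := finite_of_le hE.1.1
  have hpp : p.Prime := Fact.out
  set Φ := agemo p E hab with hΦ
  haveI hn : ∀ H : Subgroup E, H.Normal := fun H => ⟨fun n hn g => by rwa [hab g n, mul_inv_cancel_right]⟩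
  obtain ⟨x, y, hx, hy, hgen⟩ := exists_gens hS hE h2
  obtain ⟨a, ha1, ha, hmax⟩ := exists_exponent hS hE.1.1 ⟨x, fun e => hx (e ▸ Φ.one_mem)⟩
  have hmem : ∀ z : E, z ^ p ^ (a - 1) = 1 → z ∈ Φ := fun z hz => mem_agemo_of_pow hS hF hE h2 ha1 ha hmax hz
  refine ⟨a, ha1, ha, hmem, ?_⟩
  have hindep : ∀ i j : ℤ, x ^ i * y ^ j ∈ Φ → (p : ℤ) ∣ i ∧ (p : ℤ) ∣ j := by
    intro i j hij
    have key : ∀ (H : Subgroup E) (u : E), Φ ≤ H → u ∉ H → ∀ k : ℤ, u ^ k ∈ H → (p : ℤ) ∣ k := by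
      intro H u hH hu k hk
      by_contra hnd
      obtain ⟨s, t, hst⟩ := (Nat.prime_iff_prime_int.mp hpp).coprime_iff_not_dvd.mpr hnd
      refine hu ?_
      rw [show u = (u ^ (p : ℤ)) ^ s * (u ^ k) ^ t by
        rw [← zpow_mul, ← zpow_mul, ← zpow_add, mul_comm (p : ℤ), mul_comm k, hst, zpow_one]]
      exact H.mul_mem (H.zpow_mem (by rw [zpow_natCast]; exact hH (pow_mem_agemo u)) s) (H.zpow_mem hk t)
    have hj : (p : ℤ) ∣ j := by
      refine key _ y le_sup_left hy j ?_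
      have := Subgroup.mul_mem _ (Subgroup.zpow_mem _ (Subgroup.mem_sup_right (S := Φ) (Subgroup.mem_zpowers x)) (-i))
        (Subgroup.mem_sup_left (T := Subgroup.zpowers x) hij)
      rwa [← mul_assoc, ← zpow_add, neg_add_cancel, zpow_zero, one_mul] at this
    refine ⟨key Φ x le_rfl hx i ?_, hj⟩
    obtain ⟨j', rfl⟩ := hj
    have hy' : y ^ ((p : ℤ) * j') ∈ Φ := by
      rw [zpow_mul, zpow_natCast]
      exact Φ.zpow_mem (pow_mem_agemo y) j'
    exact (Φ.mul_mem_cancel_right hy').mp hij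
  have hdiv : ∀ s, s ≤ a → ∀ i j : ℤ, x ^ i * y ^ j = 1 → (p : ℤ) ^ s ∣ i ∧ (p : ℤ) ^ s ∣ j := by
    intro s
    induction s with
    | zero => intro _ i j _; simp
    | succ s ih =>
      intro hs i j h
      obtain ⟨⟨i', rfl⟩, ⟨j', rfl⟩⟩ := ih (by omega) i j h
      have hz : (x ^ i' * y ^ j') ^ p ^ (a - 1) = 1 := by
        have h' : (x ^ i' * y ^ j') ^ p ^ s = 1 := by
          rw [(show Commute (x ^ i') (y ^ j') from hab _ _).mul_pow, ← zpow_natCast, ← zpow_mul,
            ← zpow_natCast (y ^ j'), ← zpow_mul, mul_comm i', mul_comm j']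
          push_cast
          exact h
        obtain ⟨c, hc⟩ := Nat.pow_dvd_pow p (show s ≤ a - 1 by omega)
        rw [hc, pow_mul, h', one_pow]
      obtain ⟨d1, d2⟩ := hindep i' j' (hmem _ hz)
      rw [pow_succ]
      exact ⟨mul_dvd_mul_left _ d1, mul_dvd_mul_left _ d2⟩
  haveI : NeZero (p ^ a) := ⟨pow_ne_zero a hpp.ne_zero⟩
  have hmod : ∀ (u : E) (i j : ZMod (p ^ a)), u ^ (i + j).val = u ^ i.val * u ^ j.val := by
    intro u i j
    rw [← pow_add]
    exact (pow_eq_pow_mod _ (ha u)).trans (by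
      rw [ZMod.val_add, Nat.mod_mod, ← pow_eq_pow_mod _ (ha u)])
  let f : Multiplicative (ZMod (p ^ a) × ZMod (p ^ a)) →* E :=
    { toFun := fun v => x ^ v.toAdd.1.val * y ^ v.toAdd.2.val
      map_one' := by simp
      map_mul' := fun v w => by
        simp only [toAdd_mul, Prod.fst_add, Prod.snd_add, hmod]
        set A := x ^ v.toAdd.1.val
        set B := x ^ w.toAdd.1.val
        set C := y ^ v.toAdd.2.val
        set D := y ^ w.toAdd.2.val
        calc A * B * (C * D) = A * (B * C) * D := by group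
          _ = A * C * (B * D) := by rw [hab B C]; group }
  refine ⟨(MulEquiv.ofBijective f ⟨(injective_iff_map_eq_one f).mpr fun v hv => ?_, fun e => ?_⟩).symm⟩
  · have hv' : x ^ ((v.toAdd.1.val : ℕ) : ℤ) * y ^ ((v.toAdd.2.val : ℕ) : ℤ) = 1 := by
      rw [zpow_natCast, zpow_natCast]; exact hv
    obtain ⟨d1, d2⟩ := hdiv a le_rfl _ _ hv'
    have key : ∀ c : ZMod (p ^ a), (p : ℤ) ^ a ∣ ((c.val : ℕ) : ℤ) → c = 0 := fun c hc => by
      rw [← ZMod.natCast_zmod_val c, ZMod.natCast_eq_zero_iff]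
      exact_mod_cast hc
    exact Prod.ext (key _ d1) (key _ d2)
  · obtain ⟨i, j, rfl⟩ := hgen e
    refine ⟨Multiplicative.ofAdd ((i : ZMod (p ^ a)), (j : ZMod (p ^ a))), ?_⟩
    have key : ∀ (u : E) (k : ℤ), u ^ (k : ZMod (p ^ a)).val = u ^ k := fun u k => by
      rw [← zpow_natCast, ZMod.val_intCast, ← zpow_mod_natCard_aux (ha u)]
    show x ^ (i : ZMod (p ^ a)).val * y ^ (j : ZMod (p ^ a)).val = _
    rw [key, key]
where
  zpow_mod_natCard_aux {G : Type _} [Group G] {u : G} {n : ℕ} (h : u ^ n = 1) {k : ℤ} :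
      u ^ k = u ^ (k % (n : ℤ)) := by
    conv_lhs => rw [← Int.emod_add_mul_ediv k n, zpow_add, zpow_mul, zpow_natCast, h, one_zpow, mul_one]

/-- For `p ≥ 5` the rank two abelian essential subgroups are elementary. -/
theorem exponent_eq_one_of_five_le (hS : IsPGroup p S) (hF : F.IsSaturated p) (hE : F.IsEssential p E)
    (h2 : (agemo p E hab).index = p ^ 2) (hp : 5 ≤ p) {a : ℕ} (hmem : ∀ z : E, z ^ p ^ (a - 1) = 1 → z ∈ agemo p E hab) :
    a ≤ 1 := by
  by_contra hh
  have hES := hE.1.1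
  haveI : Finite E := finite_of_le hES
  haveI := finite_autGroup (F := F) hES
  have hpp : p.Prime := Fact.out
  set Φ := agemo p E hab with hΦ
  haveI hnΦ : Φ.Normal := ⟨fun n hn g => by rwa [hab g n, mul_inv_cancel_right]⟩
  obtain ⟨g, hg, hgE⟩ := exists_moved hS hF hE
  let r : MulAut E := E.normalizerMonoidHom ⟨g, hg.2⟩
  have hr : r ∈ autInducedBy S E := mem_autInducedBy_iff.mpr ⟨g, hg.1, hg.2, fun _ => rfl⟩
  have hrA := autInducedBy_le_autGroup (F := F) hES hr
  obtain ⟨j, hj⟩ := pow_eq_one_of_mem_autInducedBy hS hr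
  -- an invariant subgroup of index `p`
  have hmap : Φ.map r.toMonoidHom = Φ := by
    refine le_antisymm ?_ fun z hz => Subgroup.mem_map.mpr ⟨r⁻¹ z, apply_mem_agemo _ hz, MulAut.apply_inv_self _ _ _⟩
    rintro _ ⟨z, hz, rfl⟩
    exact apply_mem_agemo r hz
  let rq : MulAut (E ⧸ Φ) := QuotientGroup.congr Φ Φ r hmap
  have hrq : ∀ z : E, rq (QuotientGroup.mk z) = QuotientGroup.mk (r z) := fun z => rfl
  have hrqn : ∀ (n : ℕ) (z : E), (rq ^ n) (QuotientGroup.mk z) = QuotientGroup.mk ((r ^ n) z) := by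
    intro n
    induction n with
    | zero => exact fun z => rfl
    | succ n ih => intro z; rw [pow_succ', pow_succ', MulAut.mul_apply, MulAut.mul_apply, ih, hrq]
  have hRq : IsPGroup p (Subgroup.zpowers rq) := by
    rintro ⟨w, i, rfl⟩
    refine ⟨j, Subtype.ext ?_⟩
    show (rq ^ i) ^ p ^ j = 1
    have h1 : rq ^ p ^ j = 1 := MulEquiv.ext fun q => by
      obtain ⟨z, rfl⟩ := QuotientGroup.mk_surjective q
      rw [hrqn, hj]; rfl
    rw [← zpow_natCast, ← zpow_mul, mul_comm, zpow_mul, zpow_natCast, h1, one_zpow]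
  obtain ⟨q, hq1, hqfix⟩ := exists_fixed hRq (by rw [← Subgroup.index_eq_card, h2]; exact dvd_pow_self p two_ne_zero)
  obtain ⟨x, rfl⟩ := QuotientGroup.mk_surjective q
  have hx : x ∉ Φ := fun hx => hq1 ((QuotientGroup.eq_one_iff x).mpr hx)
  have hxr : x⁻¹ * r x ∈ Φ := by
    have := hqfix rq (Subgroup.mem_zpowers rq)
    rw [hrq] at this
    exact QuotientGroup.eq.mp this.symm
  set M := Φ ⊔ Subgroup.zpowers x with hM
  have hMi : M.index = p := index_sup_zpowers h2 hx
  have hMr : ∀ z ∈ M, r z ∈ M := by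
    intro z hz
    obtain ⟨w, hw, _, ⟨k, rfl⟩, rfl⟩ := Subgroup.mem_sup_of_normal_left.mp hz
    rw [map_mul, map_zpow, show r x = x * (x⁻¹ * r x) by group]
    exact M.mul_mem (Subgroup.mem_sup_left (apply_mem_agemo r hw))
      (M.zpow_mem (M.mul_mem (Subgroup.mem_sup_right (Subgroup.mem_zpowers x)) (Subgroup.mem_sup_left hxr)) k)
  let d : E → E := fun z => z⁻¹ * r z
  have hd : ∀ z, r z = z * d z := fun z => by simp [d]
  have hdM : ∀ z, d z ∈ M := fun z =>
    inv_mul_mem_of_step hj (L := ⊤) hMr (fun _ _ => trivial) (by rw [Subgroup.relIndex_top_right, hMi]) z trivial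
  have hdΦ : ∀ z ∈ M, d z ∈ Φ := by
    refine inv_mul_mem_of_step hj (fun _ => apply_mem_agemo r) hMr ?_
    have := Subgroup.relIndex_mul_index (le_sup_left : Φ ≤ M)
    rw [hMi, h2, pow_two] at this
    exact dvd_of_eq (Nat.eq_of_mul_eq_mul_right hpp.pos this)
  have hd2 : ∀ z, ∃ u, d (d z) = u ^ p := fun z =>
    (hdΦ _ (hdM z)).imp fun u hu => hu.symm
  have hdpow : ∀ (z : E) (k : ℕ), d (z ^ k) = d z ^ k := fun z k => by
    simp only [d]
    rw [map_pow, (show Commute z⁻¹ (r z) from hab _ _).mul_pow, inv_pow]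
  have hd4 : ∀ z, ∃ u, d (d (d (d z))) = u ^ p ^ 2 := by
    intro z
    obtain ⟨u, hu⟩ := hd2 z
    obtain ⟨w, hw⟩ := hd2 u
    exact ⟨w, by rw [hu, hdpow, hdpow, hw, ← pow_mul, pow_two]⟩
  let cm : CommGroup E := { (inferInstance : Group E) with mul_comm := hab }
  have hexp : ∀ (n : ℕ) (z : E), ∃ u : E,
      (r ^ n) z = z * d z ^ n * d (d z) ^ n.choose 2 * d (d (d z)) ^ n.choose 3 * u ^ p ^ 2 := by
    intro n
    induction n with
    | zero => exact fun z => ⟨1, by simp⟩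
    | succ n ih =>
      intro z
      obtain ⟨u, hu⟩ := ih z
      obtain ⟨v, hv⟩ := hd4 z
      refine ⟨r u * v ^ n.choose 3, ?_⟩
      rw [pow_succ', MulAut.mul_apply, hu]
      simp only [map_mul, map_pow]
      rw [hd z, hd (d z), hd (d (d z)), hd (d (d (d z))), hv, Nat.choose_succ_succ' n 1, Nat.choose_one_right,
        Nat.choose_succ_succ' n 2]
      simp only [pow_add, pow_one]
      have mp : ∀ (a b : E) (k : ℕ), (a * b) ^ k = a ^ k * b ^ k := fun a b k =>
        (show Commute a b from hab a b).mul_pow k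
      have e2 : (v ^ p ^ 2) ^ n.choose 3 = (v ^ n.choose 3) ^ p ^ 2 := by rw [← pow_mul, mul_comm, pow_mul]
      generalize d (d (d z)) = C
      generalize d (d z) = B
      generalize d z = A
      generalize r u = U
      simp only [mp, e2, Nat.reduceAdd]
      generalize A ^ n = a1
      generalize B ^ n = b1
      generalize B ^ n.choose 2 = b2
      generalize C ^ n.choose 2 = c2
      generalize C ^ n.choose 3 = c3
      generalize U ^ p ^ 2 = u1
      generalize (v ^ n.choose 3) ^ p ^ 2 = v1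
      ac_rfl
  have hC : ∀ k, 0 < k → k < p → ∃ c, p.choose k = p * c := fun k h0 hk => hpp.dvd_choose_self h0.ne' hk
  -- `r ^ p` agrees with the identity up to `p ^ 2`-th powers, apart from `(d z) ^ p`
  have hpth : ∀ z, ∃ u, (r ^ p) z = z * d z ^ p * u ^ p ^ 2 := by
    intro z
    obtain ⟨u, hu⟩ := hexp p z
    obtain ⟨c2, hc2⟩ := hC 2 two_pos (by omega)
    obtain ⟨c3, hc3⟩ := hC 3 (by norm_num) (by omega)
    obtain ⟨v, hv⟩ := hd2 z
    obtain ⟨w, hw⟩ := hd2 (d z)
    refine ⟨v ^ c2 * w ^ c3 * u, ?_⟩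
    rw [hu, hc2, hc3, hw, hv]
    have mp : ∀ (a b : E) (k : ℕ), (a * b) ^ k = a ^ k * b ^ k := fun a b k =>
      (show Commute a b from hab a b).mul_pow k
    have h3 : ∀ (b : E) (c : ℕ), (b ^ p) ^ (p * c) = (b ^ c) ^ p ^ 2 := fun b c => by
      rw [← pow_mul, ← pow_mul]; congr 1; ring
    rw [h3, h3, mp (v ^ c2 * w ^ c3) u, mp (v ^ c2) (w ^ c3)]
    simp only [mul_assoc]
  -- the kernel of the action modulo the powers
  let K : Subgroup (F.autGroup E) :=
    { carrier := {b | ∀ z, z⁻¹ * (b : MulAut E) z ∈ Φ}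
      one_mem' := fun z => by simp
      mul_mem' := by
        intro b c hb hc z
        have := Φ.mul_mem (hc z) (hb ((c : MulAut E) z))
        simpa [MulAut.mul_apply, mul_assoc] using this
      inv_mem' := by
        intro b hb z
        have := Φ.inv_mem (hb ((b : MulAut E)⁻¹ z))
        simpa using this }
  have hKn : K.Normal := by
    refine ⟨fun b hb c z => ?_⟩
    have := apply_mem_agemo (c : MulAut E) (hb ((c : MulAut E)⁻¹ z))
    simpa [MulAut.mul_apply] using this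
  have hKp : IsPGroup p K := by
    refine IsPGroup.of_equiv ?_ (K.equivMapOfInjective _ (F.autGroup E).subtype_injective).symm
    refine isPGroup_stabMod hS hES Φ le_rfl _ ?_ ?_ <;> rintro _ ⟨b, hb, rfl⟩
    exacts [fun z _ => hb z, hb]
  have hrp : r ^ p = 1 := by
    refine congrArg Subtype.val (eq_one_of_normal_pgroup hS hF hE hab hKn hKp
      (α := ⟨r ^ p, (F.autGroup E).pow_mem hrA p⟩) fun z => ?_)
    obtain ⟨u, hu⟩ := hpth z
    show z⁻¹ * (r ^ p) z ∈ Φ
    rw [hu, mul_assoc z, inv_mul_cancel_left, pow_two, pow_mul]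
    exact Φ.mul_mem (pow_mem_agemo _) (pow_mem_agemo _)
  have hr1 : r = 1 := by
    refine congrArg Subtype.val (eq_one_of_normal_pgroup hS hF hE hab hKn hKp
      (α := ⟨r, hrA⟩) fun z => ?_)
    obtain ⟨u, hu⟩ := hpth z
    rw [hrp, MulAut.one_apply, mul_assoc, left_eq_mul] at hu
    have h1 : (d z * u ^ p) ^ p ^ (a - 1) = 1 := by
      have h0 : (d z * u ^ p) ^ p = 1 := by
        rw [(show Commute (d z) (u ^ p) from hab _ _).mul_pow, ← pow_mul, ← pow_two]; exact hu
      obtain ⟨c, hc⟩ := dvd_pow_self p (show a - 1 ≠ 0 by omega)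
      rw [hc, pow_mul, h0, one_pow]
    exact (Φ.mul_mem_cancel_right (pow_mem_agemo u)).mp (hmem _ h1)
  refine hgE (hE.1.centralizerIn_le_self ⟨hg.1, Subgroup.mem_centralizer_iff.mpr fun w hw => ?_⟩)
  have := congrArg (fun f : MulAut E => ((f ⟨w, hw⟩ : E) : Ω)) hr1
  exact (mul_inv_eq_iff_eq_mul.mp (show g * w * g⁻¹ = w from this)).symm

end Cfsg.EssentialSmall
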