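import Cfsg.Agent.Lib.Fusion.EssentialSmall.RankTwo
import Cfsg.Agent.Lib.Fusion.SmallCentre.AxisBound
import Mathlib.LinearAlgebra.Matrix.SpecialLinearGroup
import Mathlib.FieldTheory.Finite.Basic

/-!
Essential subgroups of order `p ^ 2` and their automorphism groups.
-/

set_option autoImplicit false
set_option linter.unusedSectionVars false

namespace Cfsg.EssentialSmall

open Cfsg FusionSystem SmallCentre Matrix
open scoped MatrixGroups

variable {p : ℕ} [Fact p.Prime]

/-- A matrix of determinant one as an automorphism of the column vectors. -/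
def colAut (M : SL(2, ZMod p)) : MulAut (Multiplicative (Fin 2 → ZMod p)) where
  toFun v := Multiplicative.ofAdd (M.1.mulVec v.toAdd)
  invFun v := Multiplicative.ofAdd ((M⁻¹).1.mulVec v.toAdd)
  left_inv v := by
    show Multiplicative.ofAdd ((M⁻¹).1.mulVec ((M).1.mulVec v.toAdd)) = v
    rw [Matrix.mulVec_mulVec, ← Matrix.SpecialLinearGroup.coe_mul, inv_mul_cancel,
      Matrix.SpecialLinearGroup.coe_one, Matrix.one_mulVec, ofAdd_toAdd]
  right_inv v := by
    show Multiplicative.ofAdd ((M).1.mulVec ((M⁻¹).1.mulVec v.toAdd)) = v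
    rw [Matrix.mulVec_mulVec, ← Matrix.SpecialLinearGroup.coe_mul, mul_inv_cancel,
      Matrix.SpecialLinearGroup.coe_one, Matrix.one_mulVec, ofAdd_toAdd]
  map_mul' v w := by
    show Multiplicative.ofAdd (M.1.mulVec (v * w).toAdd) = _
    rw [toAdd_mul, Matrix.mulVec_add, ofAdd_add]

theorem colAut_apply (M : SL(2, ZMod p)) (v : Fin 2 → ZMod p) :
    colAut M (Multiplicative.ofAdd v) = Multiplicative.ofAdd (M.1.mulVec v) := rfl

/-- The action on column vectors, as a homomorphism. -/
def colHom : SL(2, ZMod p) →* MulAut (Multiplicative (Fin 2 → ZMod p)) where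
  toFun := colAut
  map_one' := MulEquiv.ext fun v => by
    show Multiplicative.ofAdd ((1 : SL(2, ZMod p)).1.mulVec v.toAdd) = v
    rw [Matrix.SpecialLinearGroup.coe_one, Matrix.one_mulVec, ofAdd_toAdd]
  map_mul' M N := MulEquiv.ext fun v => by
    show Multiplicative.ofAdd ((M * N).1.mulVec v.toAdd) = Multiplicative.ofAdd (M.1.mulVec (N.1.mulVec v.toAdd))
    rw [Matrix.mulVec_mulVec, Matrix.SpecialLinearGroup.coe_mul]

theorem colHom_injective : Function.Injective (colHom (p := p)) := by
  intro M N h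
  refine Subtype.ext (Matrix.ext fun i j => ?_)
  have := congrArg (fun f : MulAut (Multiplicative (Fin 2 → ZMod p)) =>
    (f (Multiplicative.ofAdd (Pi.single j 1))).toAdd i) h
  simp only [colHom, MonoidHom.coe_mk, OneHom.coe_mk, colAut_apply, toAdd_ofAdd, Matrix.mulVec_single_one,
    Matrix.col_apply] at this
  exact this

variable {Ω : Type*} [Group Ω] {S E : Subgroup Ω} [Finite S] {F : FusionSystem S}

theorem elementary_of_card_sq (hS : IsPGroup p S) (hF : F.IsSaturated p) (hE : F.IsEssential p E)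
    (hcard : Nat.card E = p ^ 2) : (∀ a b : E, a * b = b * a) ∧ ∀ x : E, x ^ p = 1 := by
  haveI : Finite E := finite_of_le hE.1.1
  have hab : ∀ a b : E, a * b = b * a := IsPGroup.commutative_of_card_eq_prime_sq hcard
  refine ⟨hab, fun x => ?_⟩
  have hi := index_agemo hS hF hE hab (hcard ▸ Nat.le_of_dvd Nat.card_pos (Subgroup.index_dvd_card _))
  have hbot : Nat.card (agemo p E hab) = 1 := by
    have h := (agemo p E hab).card_mul_index
    rw [hi, hcard] at h
    exact Nat.eq_of_mul_eq_mul_right (pow_pos (Fact.out : p.Prime).pos 2) (h.trans (one_mul _).symm)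
  have hx : x ^ p ∈ agemo p E hab := pow_mem_agemo x
  rw [Subgroup.eq_bot_of_card_eq _ hbot, Subgroup.mem_bot] at hx
  exact hx

theorem exists_sl2 (hS : IsPGroup p S) (hF : F.IsSaturated p) (hE : F.IsEssential p E)
    (hcard : Nat.card E = p ^ 2) :
    ∃ K : Subgroup (F.autGroup E), Nonempty (K ≃* SL(2, ZMod p)) := by
  have hES := hE.1.1
  haveI : Finite E := finite_of_le hES
  haveI := finite_autGroup (F := F) hES
  have hpp : p.Prime := Fact.out
  obtain ⟨hab, hexp⟩ := elementary_of_card_sq hS hF hE hcard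
  set R := autInducedBy S E with hR
  have hRp : IsPGroup p R := isPGroup_autInducedBy hS
  have hRA : R ≤ F.autGroup E := autInducedBy_le_autGroup hES
  obtain ⟨x, hx1, hxfix⟩ := exists_fixed hRp (hcard ▸ dvd_pow_self p two_ne_zero)
  set Z := Subgroup.zpowers x with hZdef
  have hxo : orderOf x = p := orderOf_eq_prime (hexp x) hx1
  have hidx : Z.index = p := by
    have h := Z.card_mul_index
    rw [Nat.card_zpowers, hxo, hcard, pow_two] at h
    exact Nat.eq_of_mul_eq_mul_left hpp.pos h
  have hZfix : ∀ r ∈ R, ∀ z ∈ Z, r z = z := by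
    rintro r hr _ ⟨i, rfl⟩
    show r (x ^ i) = x ^ i
    rw [map_zpow, hxfix r hr]
  have hRstab : R ≤ stab Z Z le_rfl := by
    intro r hr
    refine ⟨hZfix r hr, fun z hz => by rw [hZfix r hr z hz]; simp, fun z => ?_⟩
    obtain ⟨j, hj⟩ := pow_eq_one_of_mem_autInducedBy hS hr
    exact inv_mul_mem_of_step hj (L := ⊤) (fun z hz => by rw [hZfix r hr z hz]; exact hz) (fun _ _ => trivial)
      (by rw [Subgroup.relIndex_top_right, hidx]) z trivial
  have hR1 : R ≠ ⊥ := by
    intro e
    obtain ⟨g, hg, hgE⟩ := exists_moved hS hF hE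
    refine hgE (hE.1.centralizerIn_le_self ⟨hg.1, Subgroup.mem_centralizer_iff.mpr fun w hw => ?_⟩)
    let α : MulAut E := E.normalizerMonoidHom ⟨g, hg.2⟩
    have hα : α ∈ R := mem_autInducedBy_iff.mpr ⟨g, hg.1, hg.2, fun _ => rfl⟩
    rw [e, Subgroup.mem_bot] at hα
    have := congrArg (fun a : MulAut E => ((a ⟨w, hw⟩ : E) : Ω)) hα
    exact (mul_inv_eq_iff_eq_mul.mp (show g * w * g⁻¹ = w from this)).symm
  obtain ⟨-, T, hT⟩ := hF.isFullyAutomized_of_isFullyNormalized hS hE.2.1
  have hmax : ∀ U : Subgroup (MulAut E), U ≤ F.autGroup E → IsPGroup p U →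
      ∃ ψ ∈ F.autGroup E, ∀ u ∈ U, ψ * u * ψ⁻¹ ∈ R := by
    intro U hU hUp
    obtain ⟨a, ha⟩ := exists_conj_mem_sylow T
      (X := U.subgroupOf (F.autGroup E)) (hUp.comap_of_injective (F.autGroup E).subtype Subtype.coe_injective)
    exact ⟨a, a.2, fun u hu => hT.le (ha ⟨u, hU hu⟩ hu)⟩
  have hnot : ∃ φ ∈ F.autGroup E, ∃ r ∈ R, φ * r * φ⁻¹ ∉ R := by
    by_contra hh
    push Not at hh
    refine hR1 ((Subgroup.eq_bot_iff_forall _).mpr fun r hr => ?_)
    exact congrArg Subtype.val (eq_one_of_normal_pgroup hS hF hE hab (N := R.subgroupOf (F.autGroup E))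
      ⟨fun a ha g => hh g g.2 a ha⟩ (hRp.comap_of_injective (F.autGroup E).subtype Subtype.coe_injective)
      (α := ⟨r, hRA hr⟩) hr)
  obtain ⟨c, k, -, h⟩ := exists_tv_of_axis (hS.to_le hES) hab hidx hRA hRp hRstab hR1 hmax hnot
  obtain ⟨φ, hφ, hφZ⟩ := h.exists_moving
  set l := φ k with hl
  have hlZ : l ∉ Z := h.apply_k_not_mem hφ hφZ
  have hkl : φ⁻¹ k ∉ Z := fun hh => h.k_not_mem hφ hφZ (Subgroup.mem_map.mpr ⟨φ⁻¹ k, hh, MulAut.apply_inv_self _ _ _⟩)
  have hZk : Z = Subgroup.zpowers k := by
    refine (Subgroup.eq_of_le_of_card_ge (Subgroup.zpowers_le.mpr h.kZ) ?_).symm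
    rw [hZdef, Nat.card_zpowers, Nat.card_zpowers, h.korder, hxo]
  -- coordinates
  let ψ : Multiplicative (Fin 2 → ZMod p) →* E :=
    { toFun := fun v => k ^ (v.toAdd 0).val * l ^ (v.toAdd 1).val
      map_one' := by simp
      map_mul' := fun v w => by
        have hval : ∀ (u : E) (i j : ZMod p), u ^ (i + j).val = u ^ i.val * u ^ j.val := fun u i j => by
          rw [ZMod.val_add, ← pow_eq_pow_mod _ (hexp u), pow_add]
        simp only [toAdd_mul, Pi.add_apply, hval]
        set a := k ^ (v.toAdd 0).val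
        set b := k ^ (w.toAdd 0).val
        set c := l ^ (v.toAdd 1).val
        set d := l ^ (w.toAdd 1).val
        calc a * b * (c * d) = a * (b * c) * d := by group
          _ = a * c * (b * d) := by rw [hab b c]; group }
  have hψ : ∀ a b : ZMod p, ψ (Multiplicative.ofAdd ![a, b]) = k ^ a.val * l ^ b.val := fun a b => rfl
  have hint : ∀ (u : E) (i : ℤ), u ^ (i : ZMod p).val = u ^ i := fun u i => by
    rw [← zpow_natCast, ZMod.val_intCast]
    conv_rhs => rw [← Int.emod_add_mul_ediv i p, _root_.zpow_add, _root_.zpow_mul, zpow_natCast, hexp, _root_.one_zpow, mul_one]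
  have hdec : ∀ e : E, ∃ a b : ℤ, e = k ^ a * l ^ b := by
    intro e
    obtain ⟨y, hy, b, rfl⟩ := h.decomp_top hidx hlZ e
    rw [hZk] at hy
    obtain ⟨a, rfl⟩ := hy
    exact ⟨a, b, rfl⟩
  have hψs : Function.Surjective ψ := fun e => by
    obtain ⟨a, b, rfl⟩ := hdec e
    exact ⟨Multiplicative.ofAdd ![(a : ZMod p), (b : ZMod p)], by rw [hψ, hint, hint]⟩
  have hψb : Function.Bijective ψ := hψs.bijective_of_nat_card_le (le_of_eq (by
    rw [hcard, Nat.card_eq_fintype_card, Fintype.card_congr Multiplicative.toAdd, Fintype.card_fun,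
      ZMod.card, Fintype.card_fin]))
  let eψ := MulEquiv.ofBijective ψ hψb
  let f : SL(2, ZMod p) →* MulAut E := (MulAut.congr eψ).toMonoidHom.comp colHom
  have hf : Function.Injective f := (MulAut.congr eψ).injective.comp colHom_injective
  have hfψ : ∀ M v, f M (ψ (Multiplicative.ofAdd v)) = ψ (Multiplicative.ofAdd (M.1.mulVec v)) := by
    intro M v
    show eψ (colAut M (eψ.symm (eψ (Multiplicative.ofAdd v)))) = _
    rw [MulEquiv.symm_apply_apply]
    rfl
  have hext : ∀ α β : MulAut E, α k = β k → α l = β l → α = β := fun α β h1 h2 => MulEquiv.ext fun e => by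
    obtain ⟨a, b, rfl⟩ := hdec e
    rw [map_mul, map_mul, map_zpow, map_zpow, map_zpow, map_zpow, h1, h2]
  haveI : Fact (1 < p) := ⟨hpp.one_lt⟩
  have hk : ψ (Multiplicative.ofAdd ![1, 0]) = k := by rw [hψ, ZMod.val_one, ZMod.val_zero, pow_one, pow_zero, mul_one]
  have hl' : ψ (Multiplicative.ofAdd ![0, 1]) = l := by rw [hψ, ZMod.val_one, ZMod.val_zero, pow_one, pow_zero, one_mul]
  have hrange : f.range ≤ F.autGroup E := by
    rintro _ ⟨M, rfl⟩
    refine SL2.transvection_induction (fun M => f M ∈ F.autGroup E) (fun i j hij s => ?_)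
      (fun A B hA hB => by rw [map_mul]; exact (F.autGroup E).mul_mem hA hB) M
    have hcases : (i = 0 ∧ j = 1) ∨ (i = 1 ∧ j = 0) := by omega
    rcases hcases with ⟨rfl, rfl⟩ | ⟨rfl, rfl⟩
    · obtain ⟨u, hu, hul⟩ := h.exists_pow_apply hlZ (s.val : ℤ)
      have : f (SpecialLinearGroup.transvection hij s) = u := by
        refine hext _ _ ?_ ?_
        · rw [h.pow_fix hu h.kZ]
          conv_lhs => rw [← hk, hfψ]
          conv_rhs => rw [← hk]
          congr 2
          ext i
          fin_cases i <;>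
            simp [Matrix.SpecialLinearGroup.transvection_coe, Matrix.mulVec, dotProduct, Fin.sum_univ_two, Matrix.single_apply]
        · rw [hul, zpow_natCast]
          conv_lhs => rw [← hl', hfψ]
          rw [show (Matrix.SpecialLinearGroup.transvection hij s).1.mulVec ![0, 1] = ![s, 1] by
            ext i
            fin_cases i <;>
              simp [Matrix.SpecialLinearGroup.transvection_coe, Matrix.mulVec, dotProduct, Fin.sum_univ_two, Matrix.single_apply],
            hψ, ZMod.val_one, pow_one, hab]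
      rw [this]
      exact (Subgroup.zpowers_le.mpr h.cA) hu
    · obtain ⟨u, hu, hul⟩ := h.exists_pow_apply hkl (s.val : ℤ)
      have : f (SpecialLinearGroup.transvection hij s) = φ * u * φ⁻¹ := by
        refine hext _ _ ?_ ?_
        · rw [MulAut.mul_apply, MulAut.mul_apply, hul, map_mul, MulAut.apply_inv_self, map_zpow, zpow_natCast, ← hl]
          conv_lhs => rw [← hk, hfψ]
          rw [show (Matrix.SpecialLinearGroup.transvection hij s).1.mulVec ![1, 0] = ![1, s] by
            ext i
            fin_cases i <;>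
              simp [Matrix.SpecialLinearGroup.transvection_coe, Matrix.mulVec, dotProduct, Fin.sum_univ_two, Matrix.single_apply],
            hψ, ZMod.val_one, pow_one]
        · rw [MulAut.mul_apply, MulAut.mul_apply, hl, MulAut.inv_apply_self, h.pow_fix hu h.kZ, ← hl]
          conv_lhs => rw [← hl', hfψ]
          conv_rhs => rw [← hl']
          congr 2
          ext i
          fin_cases i <;>
            simp [Matrix.SpecialLinearGroup.transvection_coe, Matrix.mulVec, dotProduct, Fin.sum_univ_two, Matrix.single_apply]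
      rw [this]
      exact (F.autGroup E).mul_mem ((F.autGroup E).mul_mem hφ ((Subgroup.zpowers_le.mpr h.cA) hu))
        ((F.autGroup E).inv_mem hφ)
  exact ⟨f.range.subgroupOf (F.autGroup E),
    ⟨(Subgroup.subgroupOfEquivOfLe hrange).trans (MonoidHom.ofInjective hf).symm⟩⟩

end Cfsg.EssentialSmall
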